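/-
Dimensions of points of finite dimensional schemes (`WeilCoh.dim`, `pdim`, `codim`).
-/
import Groth.Prelude.Def_BMCoh
import Mathlib.AlgebraicGeometry.Morphisms.Immersion
import Mathlib.Topology.Sober
import Mathlib.Order.KrullDimension

set_option autoImplicit false
set_option linter.unusedSectionVars false
set_option linter.style.haveILetI false
universe u

open AlgebraicGeometry CategoryTheory TopologicalSpace Topology

namespace GrothLib.BMGysin

section Space

variable {T : Type u} [TopologicalSpace T] [QuasiSober T] [T0Space T]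

/-- height of a point: the dimension of its closure, in `ℕ∞` -/
noncomputable def hgt (x : T) : ℕ∞ :=
  letI := specializationOrder T
  Order.height x

lemma krullDim_points :
    letI := specializationOrder T
    topologicalKrullDim T = Order.krullDim T :=
  letI := specializationOrder T
  Order.krullDim_eq_of_orderIso irreducibleSetEquivPoints

lemma dim_closure (x : T) : topologicalKrullDim ↥(closure ({x} : Set T)) = (hgt x : WithBot ℕ∞) := by
  letI := specializationOrder T
  have hc : IsClosedEmbedding ((↑) : closure ({x} : Set T) → T) :=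
    isClosed_closure.isClosedEmbedding_subtypeVal
  have := hc.quasiSober
  rw [krullDim_points, hgt, Order.height_eq_krullDim_Iic x]
  letI := specializationOrder ↥(closure ({x} : Set T))
  let e : @OrderIso ↥(closure ({x} : Set T)) (Set.Iic x)
      (specializationOrder ↥(closure ({x} : Set T))).toLE _ :=
    @RelIso.mk _ _ _ _ (Equiv.subtypeEquivRight fun y => specializes_iff_mem_closure.symm)
      fun {a b} => (IsInducing.subtypeVal.specializes_iff (x := b) (y := a))
  exact @Order.krullDim_eq_of_orderIso _ _ (specializationOrder _).toPreorder _ e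

lemma hgt_mono {x y : T} (h : x ⤳ y) : hgt y ≤ hgt x :=
  letI := specializationOrder T
  Order.height_mono h

lemma hgt_lt {x y : T} (h : x ⤳ y) (hne : x ≠ y) (hfin : hgt y < ⊤) : hgt y < hgt x :=
  letI := specializationOrder T
  Order.height_strictMono (lt_of_le_of_ne (α := T) h (Ne.symm hne)) hfin

lemma hgt_le_dim (x : T) : (hgt x : WithBot ℕ∞) ≤ topologicalKrullDim T := by
  letI := specializationOrder T
  rw [krullDim_points]
  exact Order.height_le_krullDim x

lemma dim_eq_iSup : topologicalKrullDim T = ⨆ x : T, (hgt x : WithBot ℕ∞) := by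
  letI := specializationOrder T
  rw [krullDim_points, Order.krullDim_eq_iSup_height]
  rfl

lemma exists_hgt_eq (x : T) {n : ℕ} (h : (n : ℕ∞) ≤ hgt x) (hfin : hgt x < ⊤) :
    ∃ y, x ⤳ y ∧ hgt y = n := by
  letI := specializationOrder T
  obtain ⟨m, hm⟩ := WithTop.ne_top_iff_exists.1 hfin.ne
  obtain ⟨p, hp, hlen⟩ := Order.exists_series_of_height_eq_coe x hm.symm
  have hnm : n ≤ m := by rw [← hm] at h; exact Nat.cast_le.1 h
  refine ⟨p ⟨n, by omega⟩, ?_, ?_⟩
  · rw [← hp]
    exact p.monotone (Fin.le_last _)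
  · exact Order.height_eq_index_of_length_eq_height_last (by rw [hp, hlen]; exact hm) _

omit [QuasiSober T] [T0Space T] in
lemma hgt_map_le {S : Type u} [TopologicalSpace S] [QuasiSober S] [T0Space S] [QuasiSober T]
    [T0Space T] {f : S → T} (hf : IsInducing f) (s : S) : hgt s ≤ hgt (f s) := by
  letI := specializationOrder S
  letI := specializationOrder T
  refine Order.height_le_height_apply_of_strictMono f ?_ s
  intro a b hab
  refine lt_of_le_of_ne (hf.specializes_iff.2 hab.le) fun e => hab.ne ?_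
  exact (hf.inseparable_iff.1 (e ▸ Inseparable.refl (f a))).eq

end Space

section Scheme

variable {X : Scheme.{u}}

lemma pdim_eq (x : X) : WeilCoh.pdim X x = (hgt x).toNat := by
  rw [WeilCoh.pdim, WeilCoh.natDim, dim_closure]
  rfl

variable (hX : topologicalKrullDim X < ⊤)
include hX

lemma hgt_lt_top (x : X) : hgt x < ⊤ :=
  WithBot.coe_lt_coe.1 (lt_of_le_of_lt (hgt_le_dim x) hX)

lemma coe_pdim (x : X) : (WeilCoh.pdim X x : ℕ∞) = hgt x := by
  rw [pdim_eq, ENat.natCast_toNat (hgt_lt_top hX x).ne]

lemma exists_dim_eq [Nonempty X] : ∃ n : ℕ, topologicalKrullDim X = n ∧ WeilCoh.dim X = n := by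
  have h0 : (0 : WithBot ℕ∞) ≤ topologicalKrullDim X :=
    le_trans (by simp) (hgt_le_dim (Classical.arbitrary X))
  generalize hd : topologicalKrullDim X = d at hX h0
  induction d using WithBot.recBotCoe with
  | bot => simp at h0
  | coe d =>
    lift d to ℕ using (WithBot.coe_lt_coe.1 hX).ne with n
    exact ⟨n, rfl, by rw [WeilCoh.dim, WeilCoh.natDim, hd]; rfl⟩

lemma pdim_le_dim (x : X) : WeilCoh.pdim X x ≤ WeilCoh.dim X := by
  have : Nonempty X := ⟨x⟩
  obtain ⟨n, hn, hn'⟩ := exists_dim_eq hX
  have h := hgt_le_dim x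
  rw [hn, ← coe_pdim hX x] at h
  rw [hn']
  exact_mod_cast h

lemma pdim_mono {x y : X} (h : x ⤳ y) : WeilCoh.pdim X y ≤ WeilCoh.pdim X x := by
  have := hgt_mono h
  rw [← coe_pdim hX, ← coe_pdim hX] at this
  exact_mod_cast this

lemma pdim_lt {x y : X} (h : x ⤳ y) (hne : x ≠ y) : WeilCoh.pdim X y < WeilCoh.pdim X x := by
  have := hgt_lt h hne (hgt_lt_top hX y)
  rw [← coe_pdim hX, ← coe_pdim hX] at this
  exact_mod_cast this

lemma eq_of_pdim_le {x y : X} (h : x ⤳ y) (h' : WeilCoh.pdim X x ≤ WeilCoh.pdim X y) : x = y :=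
  by_contra fun hne => absurd (pdim_lt hX h hne) (by omega)

lemma codim_mono {x y : X} (h : x ⤳ y) : WeilCoh.codim X x ≤ WeilCoh.codim X y :=
  Nat.sub_le_sub_left (pdim_mono hX h) _

lemma codim_lt {x y : X} (h : x ⤳ y) (hne : x ≠ y) :
    WeilCoh.codim X x < WeilCoh.codim X y := by
  have := pdim_lt hX h hne
  have := pdim_le_dim hX x
  simp only [WeilCoh.codim]
  omega

lemma eq_of_codim_le {x y : X} (h : x ⤳ y) (h' : WeilCoh.codim X y ≤ WeilCoh.codim X x) : x = y :=
  by_contra fun hne => absurd (codim_lt hX h hne) (by omega)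

lemma pdim_add_codim (x : X) : WeilCoh.pdim X x + WeilCoh.codim X x = WeilCoh.dim X :=
  Nat.add_sub_cancel' (pdim_le_dim hX x)

lemma dim_le_of_forall_pdim_le {d : ℕ} (h : ∀ x : X, WeilCoh.pdim X x ≤ d) :
    WeilCoh.dim X ≤ d := by
  cases isEmpty_or_nonempty X
  · have : topologicalKrullDim X = ⊥ := by rw [dim_eq_iSup, iSup_of_empty']; simp
    simp [WeilCoh.dim, WeilCoh.natDim, this]
  · obtain ⟨n, hn, hn'⟩ := exists_dim_eq hX
    have h2 : topologicalKrullDim X ≤ (d : WithBot ℕ∞) := by
      rw [dim_eq_iSup]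
      refine iSup_le fun x => ?_
      rw [← coe_pdim hX x]
      exact_mod_cast h x
    rw [hn] at h2
    rw [hn']
    exact_mod_cast h2

lemma exists_pdim_eq_dim [Nonempty X] : ∃ x : X, WeilCoh.pdim X x = WeilCoh.dim X := by
  by_contra! h
  obtain ⟨n, hn, hn'⟩ := exists_dim_eq hX
  cases n with
  | zero =>
    have x := Classical.arbitrary X
    exact h x (le_antisymm (pdim_le_dim hX x) (by omega))
  | succ n =>
    have := dim_le_of_forall_pdim_le hX (d := n) fun x => by
      have := pdim_le_dim hX x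
      have := h x
      omega
    omega

lemma exists_pdim_eq [Nonempty X] {n : ℕ} (h : n ≤ WeilCoh.dim X) :
    ∃ x : X, WeilCoh.pdim X x = n := by
  obtain ⟨x, hx⟩ := exists_pdim_eq_dim hX
  obtain ⟨y, -, hy⟩ := exists_hgt_eq x (n := n)
    (by rw [← coe_pdim hX, hx]; exact_mod_cast h) (hgt_lt_top hX x)
  exact ⟨y, by rw [pdim_eq, hy]; rfl⟩

end Scheme

section Immersion

variable {X Z : Scheme.{u}} (f : Z ⟶ X)

lemma pdim_map_le [IsImmersion f] (hX : topologicalKrullDim X < ⊤) (z : Z) :
    WeilCoh.pdim Z z ≤ WeilCoh.pdim X (f z) := by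
  rw [pdim_eq, pdim_eq]
  exact ENat.toNat_le_toNat (hgt_map_le f.isEmbedding.isInducing z) (hgt_lt_top hX _).ne

/-- closed immersions do not change the dimension of the closure of a point -/
lemma pdim_map [IsClosedImmersion f] (z : Z) : WeilCoh.pdim X (f z) = WeilCoh.pdim Z z := by
  have hf : IsClosedEmbedding f.base := f.isClosedEmbedding
  rw [WeilCoh.pdim, WeilCoh.pdim, WeilCoh.natDim, WeilCoh.natDim]
  have h := hf.isEmbedding.homeomorphImage (closure ({z} : Set Z))
  rw [IsHomeomorph.topologicalKrullDim_eq _ h.isHomeomorph]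
  have he : f.base '' closure {z} = closure {f z} := by
    rw [← hf.closure_image_eq, Set.image_singleton]
  rw [IsHomeomorph.topologicalKrullDim_eq _ (Homeomorph.setCongr he).isHomeomorph]

end Immersion

end GrothLib.BMGysin
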