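/-
Calculus of the open-system colimits `BMCoh.PreTheory.ocolim`.
-/
import Groth.Prelude.Def_BMCoh3
import Groth.Agent.Lib.BMGysin.Dim
import Mathlib.CategoryTheory.Limits.ConcreteCategory.Basic
import Mathlib.Algebra.Category.ModuleCat.FilteredColimits

set_option autoImplicit false
universe u

open AlgebraicGeometry CategoryTheory CategoryTheory.Limits Opposite TopologicalSpace BMCoh

namespace GrothLib.BMGysin

variable {V : ObjectProperty Scheme.{u}} [IsConstructible V] {R : Type u} [CommRing R] {A : Coefs R}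

lemma finDim (X : Obj V) : topologicalKrullDim X.scheme < ⊤ := IsConstructible.finiteDim X.mem

instance noetherianScheme (X : Obj V) : IsNoetherian X.scheme := IsConstructible.isNoetherian X.mem

lemma hom_ext {X Y : Obj V} {f g : X ⟶ Y} (h : f.hom = g.hom) : f = g := Hom.ext h

variable (T : PreTheory V R A)

lemma pull_id (X : Obj V) (M : A.Cat) (i n : ℤ) (a : T.gp X M i n) :
    (T.pull (𝟙 X) M i n).hom a = a := by
  simp [PreTheory.pull]

lemma pull_comp {X Y Z : Obj V} (f : X ⟶ Y) (g : Y ⟶ Z) (M : A.Cat) (i n : ℤ)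
    (a : T.gp Z M i n) :
    (T.pull f M i n).hom ((T.pull g M i n).hom a) = (T.pull (f ≫ g) M i n).hom a := by
  simp [PreTheory.pull]

lemma pull_congr {X Y : Obj V} {f g : X ⟶ Y} (h : f.hom = g.hom) (M : A.Cat) (i n : ℤ)
    (a : T.gp Y M i n) : (T.pull f M i n).hom a = (T.pull g M i n).hom a := by
  rw [hom_ext h]

/-- the transition map of an index family -/
noncomputable def Idx.res (X : Obj V) {P Q : X.scheme.Opens → Prop} (U' : Idx X P) (U : Idx X Q)
    (h : U'.1 ≤ U.1) : X.res U'.1 ⟶ X.res U.1 :=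
  X.resLE h (U'.2.2.trans U.2.2.symm)

lemma Idx.res_hom (X : Obj V) {P Q : X.scheme.Opens → Prop} (U' : Idx X P) (U : Idx X Q)
    (h : U'.1 ≤ U.1) : (Idx.res X U' U h).hom = X.scheme.homOfLE h := rfl

/-- a property stable under intersection and preserving dimension -/
structure GoodP (X : Obj V) (P : X.scheme.Opens → Prop) : Prop where
  top : P ⊤
  inf : ∀ U U' : Idx X P, P (U.1 ⊓ U'.1) ∧
    WeilCoh.dim ((U.1 ⊓ U'.1 : X.scheme.Opens) : Scheme.{u}) = WeilCoh.dim X.scheme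

variable {T} {X : Obj V} {P : X.scheme.Opens → Prop}

lemma GoodP.isFiltered (hP : GoodP X P) : IsFiltered (Idx X P)ᵒᵖ := by
  have : IsCofiltered (Idx X P) :=
    { nonempty := ⟨⟨⊤, hP.top, dim_top X.scheme⟩⟩
      cone_objs := fun U U' => ⟨⟨U.1 ⊓ U'.1, hP.inf U U'⟩, homOfLE (Subtype.coe_le_coe.1 inf_le_left),
        homOfLE (Subtype.coe_le_coe.1 inf_le_right), trivial⟩
      cone_maps := fun U _ _ _ => ⟨U, 𝟙 U, Subsingleton.elim _ _⟩ }
  infer_instance

variable (M : A.Cat) (i n : ℤ)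

/-- the colimit, evaluated at a coefficient module -/
noncomputable def isColimitEval (P : X.scheme.Opens → Prop) :
    IsColimit (((evaluation A.Cat (ModuleCat.{u} R)).obj M).mapCocone
      (colimit.cocone ((idxDiag X P).op ⋙ T.H i n))) :=
  isColimitOfPreserves _ (colimit.isColimit _)

lemma exists_rep (hP : GoodP X P) (a : (T.ocolim X P i n).obj M) :
    ∃ (U : Idx X P) (b : T.gp (X.res U.1) M i n), ((T.ocolimι X P i n U).app M).hom b = a := by
  have := hP.isFiltered
  obtain ⟨U, b, h⟩ := Concrete.isColimit_exists_rep _ (isColimitEval (T := T) M i n P) a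
  exact ⟨U.unop, b, h⟩

lemma ι_pull {U' U : Idx X P} (h : U'.1 ≤ U.1) (b : T.gp (X.res U.1) M i n) :
    ((T.ocolimι X P i n U').app M).hom ((T.pull (Idx.res X U' U h) M i n).hom b) =
      ((T.ocolimι X P i n U).app M).hom b := by
  have := congr_app (colimit.w ((idxDiag X P).op ⋙ T.H i n) (homOfLE (show U' ≤ U from h)).op) M
  exact ConcreteCategory.congr_hom this b

lemma exists_le_of_ι_eq (hP : GoodP X P) {U₁ U₂ : Idx X P} {b₁ : T.gp (X.res U₁.1) M i n}
    {b₂ : T.gp (X.res U₂.1) M i n}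
    (e : ((T.ocolimι X P i n U₁).app M).hom b₁ = ((T.ocolimι X P i n U₂).app M).hom b₂) :
    ∃ (U : Idx X P) (h₁ : U.1 ≤ U₁.1) (h₂ : U.1 ≤ U₂.1),
      (T.pull (Idx.res X U U₁ h₁) M i n).hom b₁ = (T.pull (Idx.res X U U₂ h₂) M i n).hom b₂ := by
  have := hP.isFiltered
  obtain ⟨U, f, g, h⟩ := Concrete.isColimit_exists_of_rep_eq.{u} _
    (isColimitEval (T := T) M i n P) (i := op U₁) (j := op U₂) b₁ b₂ e
  exact ⟨U.unop, f.unop.le, g.unop.le, h⟩

lemma exists_le_of_ι_eq_zero (hP : GoodP X P) {U₁ : Idx X P} {b : T.gp (X.res U₁.1) M i n}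
    (e : ((T.ocolimι X P i n U₁).app M).hom b = 0) :
    ∃ (U : Idx X P) (h₁ : U.1 ≤ U₁.1), (T.pull (Idx.res X U U₁ h₁) M i n).hom b = 0 := by
  obtain ⟨U, h₁, _, h⟩ := exists_le_of_ι_eq M i n hP (b₁ := b) (b₂ := 0) (U₂ := U₁)
    (by rw [e, map_zero])
  exact ⟨U, h₁, by rw [h, map_zero]⟩

lemma ocolimMap_ι {Q : X.scheme.Opens → Prop} (h : ∀ U, P U → Q U) (U : Idx X P)
    (b : T.gp (X.res U.1) M i n) :
    ((T.ocolimMap X h i n).app M).hom (((T.ocolimι X P i n U).app M).hom b) =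
      ((T.ocolimι X Q i n ⟨U.1, h _ U.2.1, U.2.2⟩).app M).hom b := by
  have := congr_app (colimit.ι_pre ((idxDiag X Q).op ⋙ T.H i n) (idxIncl X h).op (op U)) M
  exact ConcreteCategory.congr_hom this b

lemma hom_ext_ι (hP : GoodP X P) {N : ModuleCat.{u} R} {f g : (T.ocolim X P i n).obj M ⟶ N}
    (h : ∀ (U : Idx X P) (b : T.gp (X.res U.1) M i n),
      f.hom (((T.ocolimι X P i n U).app M).hom b) = g.hom (((T.ocolimι X P i n U).app M).hom b)) :
    f = g := by
  ext a
  obtain ⟨U, b, rfl⟩ := exists_rep M i n hP a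
  exact h U b

end GrothLib.BMGysin
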