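/-
The index families of the groups of points and of the groups of `F_j`.
-/
import Groth.Agent.Lib.BMGysin.Colim
import Groth.Agent.Lib.RedSub.Basic
import Mathlib.AlgebraicGeometry.Noetherian

set_option autoImplicit false
universe u

open AlgebraicGeometry CategoryTheory CategoryTheory.Limits Opposite TopologicalSpace BMCoh
open GrothLib

namespace GrothLib.BMGysin

variable {V : ObjectProperty Scheme.{u}} [IsConstructible V] (X : Obj V)

lemma range_ptSubι (x : X.scheme) : Set.range (X.ptSubι x) = closure {x} :=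
  RedSub.range_subschemeι_vanishingIdeal _

instance reduced_ptSub (x : X.scheme) : IsReduced (X.ptSub x).scheme :=
  RedSub.isReduced_subscheme_vanishingIdeal _

lemma irreducible_ptSub (x : X.scheme) : IrreducibleSpace (X.ptSub x).scheme := by
  have hemb : Topology.IsEmbedding (X.ptSubι x).base := (X.ptSubι x).isEmbedding
  let e := hemb.toHomeomorph.trans (Homeomorph.setCongr (range_ptSubι X x))
  have : IrreducibleSpace ↥(closure ({x} : Set X.scheme)) :=
    Subtype.irreducibleSpace isIrreducible_singleton.closure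
  exact e.irreducibleSpace_iff.2 this

lemma dim_ptSub (x : X.scheme) : WeilCoh.dim (X.ptSub x).scheme = WeilCoh.pdim X.scheme x := by
  have hemb : Topology.IsEmbedding (X.ptSubι x).base := (X.ptSubι x).isEmbedding
  let e := hemb.toHomeomorph.trans (Homeomorph.setCongr (range_ptSubι X x))
  rw [WeilCoh.dim, WeilCoh.pdim, WeilCoh.natDim, WeilCoh.natDim,
    IsHomeomorph.topologicalKrullDim_eq _ e.isHomeomorph]

lemma dim_open_ptSub (x : X.scheme) (W : (X.ptSub x).scheme.Opens)
    (h : (W : Set (X.ptSub x).scheme).Nonempty) :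
    WeilCoh.dim (W : Scheme.{u}) = WeilCoh.pdim X.scheme x :=
  (IsConstructible.dim_open (X.ptSub x).mem (irreducible_ptSub X x) W h).trans (dim_ptSub X x)

/-- a nonempty open of the reduced closure of a point, as an index -/
def mkPtIdx {x : X.scheme} (W : (X.ptSub x).scheme.Opens)
    (h : (W : Set (X.ptSub x).scheme).Nonempty) : ptIdx X x :=
  ⟨W, h, (dim_open_ptSub X x W h).trans (dim_ptSub X x).symm⟩

lemma dim_le_of_isImmersion {Y : Scheme.{u}} (f : Y ⟶ X.scheme) [IsImmersion f] :
    topologicalKrullDim Y ≤ topologicalKrullDim X.scheme :=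
  f.isEmbedding.isInducing.topologicalKrullDim_le

lemma dim_opens_le (U : X.scheme.Opens) :
    WeilCoh.dim (U : Scheme.{u}) ≤ WeilCoh.dim X.scheme := by
  have hU : topologicalKrullDim (U : Scheme.{u}) < ⊤ :=
    lt_of_le_of_lt (dim_le_of_isImmersion X U.ι) (finDim X)
  refine dim_le_of_forall_pdim_le hU fun z => ?_
  exact (pdim_map_le U.ι (finDim X) z).trans (pdim_le_dim (finDim X) _)

/-- opens containing a point of maximal dimension have full dimension -/
lemma dim_eq_of_mem (U : X.scheme.Opens) (x : X.scheme) (hx : x ∈ U)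
    (hd : WeilCoh.pdim X.scheme x = WeilCoh.dim X.scheme) :
    WeilCoh.dim (U : Scheme.{u}) = WeilCoh.dim X.scheme := by
  refine le_antisymm (dim_opens_le X U) ?_
  have hxC : x ∈ Set.range (X.ptSubι x) := by rw [range_ptSubι]; exact subset_closure rfl
  obtain ⟨z, hz⟩ := hxC
  let W : (X.ptSub x).scheme.Opens := (X.ptSubι x) ⁻¹ᵁ U
  have hzW : z ∈ W := by show (X.ptSubι x) z ∈ U; rw [hz]; exact hx
  have hU : topologicalKrullDim (U : Scheme.{u}) < ⊤ :=
    lt_of_le_of_lt (dim_le_of_isImmersion X U.ι) (finDim X)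
  have hWfin : topologicalKrullDim (W : Scheme.{u}) < ⊤ :=
    lt_of_le_of_lt (dim_le_of_isImmersion (X.ptSub x) W.ι) (finDim (X.ptSub x))
  rw [← hd, ← dim_open_ptSub X x W ⟨z, hzW⟩]
  refine dim_le_of_forall_pdim_le hWfin fun w => ?_
  let f : (W : Scheme.{u}) ⟶ U := (X.ptSubι x) ∣_ U
  exact (pdim_map_le f hU w).trans (pdim_le_dim hU _)

lemma dim_eq_of_containsFj {j : ℕ} {U : X.scheme.Opens} (hU : ContainsFj X j U) :
    WeilCoh.dim (U : Scheme.{u}) = WeilCoh.dim X.scheme := by
  cases isEmpty_or_nonempty X.scheme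
  · have : U = ⊤ := Opens.ext (Set.eq_univ_of_forall fun x => isEmptyElim x)
    rw [this, dim_top]
  · obtain ⟨x, hx⟩ := exists_pdim_eq_dim (finDim X)
    exact dim_eq_of_mem X U x (hU x (by simp [WeilCoh.codim, hx])) hx

/-- an open containing `F_j` as an index -/
def mkFjIdx {j : ℕ} (U : X.scheme.Opens) (hU : ContainsFj X j U) : Idx X (ContainsFj X j) :=
  ⟨U, hU, dim_eq_of_containsFj X hU⟩

lemma goodP_containsFj (j : ℕ) : GoodP X (ContainsFj X j) where
  top := fun _ _ => trivial
  inf U U' :=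
    have h : ContainsFj X j (U.1 ⊓ U'.1) := fun y hy => ⟨U.2.1 y hy, U'.2.1 y hy⟩
    ⟨h, dim_eq_of_containsFj X h⟩

lemma goodP_pt (x : X.scheme) :
    GoodP (X.ptSub x) (fun U => (U : Set (X.ptSub x).scheme).Nonempty) where
  top := by
    have := irreducible_ptSub X x
    exact Set.univ_nonempty
  inf U U' := by
    have := irreducible_ptSub X x
    have h : ((U.1 ⊓ U'.1 : (X.ptSub x).scheme.Opens) : Set (X.ptSub x).scheme).Nonempty :=
      nonempty_preirreducible_inter U.1.2 U'.1.2 U.2.1 U'.2.1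
    exact ⟨h, (mkPtIdx X _ h).2.2⟩

/-- removing finitely many closures of points of codimension `> j` keeps `F_j` -/
lemma containsFj_of_forall {j : ℕ} {U : X.scheme.Opens}
    (h : ∀ y, y ∉ U → ∃ x, j < WeilCoh.codim X.scheme x ∧ x ⤳ y) : ContainsFj X j U := by
  intro y hy
  by_contra hyU
  obtain ⟨x, hx, hxy⟩ := h y hyU
  have := codim_mono (finDim X) hxy
  omega

end GrothLib.BMGysin
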