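/-
Consequences of the Gysin sequences for clopen decompositions.
-/
import Groth.Agent.Lib.BMGysin.Index
import Mathlib.AlgebraicGeometry.Morphisms.Proper

set_option autoImplicit false
universe u

open AlgebraicGeometry CategoryTheory CategoryTheory.Limits Opposite TopologicalSpace BMCoh
open GrothLib

namespace GrothLib.BMGysin

variable {V : ObjectProperty Scheme.{u}} [IsConstructible V] {R : Type u} [CommRing R] {A : Coefs R}
variable (T : PreTheory V R A)

lemma relCodim_hom {X Y : Obj V} (g : X ⟶ Y) : relCodim X.scheme Y.scheme = 0 := by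
  simp [relCodim, g.dim_eq]

lemma isClosedImmersion_hom {X Y : Obj V} (g : X ⟶ Y) (h : IsClosed (Set.range g.hom)) :
    IsClosedImmersion g.hom :=
  .of_isPreimmersion g.hom h

/-- push forward along a closed and open immersion (no shift) -/
noncomputable def pushC {X Y : Obj V} (g : X ⟶ Y) [IsProper g.hom] (M : A.Cat) (i n : ℤ) :
    T.gp X M i n ⟶ T.gp Y M i n :=
  T.push g.hom M i n i n (by simp [relCodim_hom g]) (by simp [relCodim_hom g])

lemma pull_pushC {X Y : Obj V} (g : X ⟶ Y) [IsProper g.hom] (M : A.Cat) (i n : ℤ)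
    (a : T.gp X M i n) : (T.pull g M i n).hom ((pushC T g M i n).hom a) = a := by
  have hsq : IsPullback (𝟙 X : X ⟶ X).hom (𝟙 X.scheme) g.hom g.hom := IsKernelPair.id_of_mono g.hom
  have h := T.push_pull (f := g.hom) (f' := 𝟙 X.scheme) g (𝟙 X) hsq M i n i n
    (by simp [relCodim_hom g]) (by simp [relCodim_hom g]) (by simp [relCodim])
    (by simp [relCodim])
  have := ConcreteCategory.congr_hom h a
  rw [T.push_id] at this
  simpa [pushC] using this

/-- the decomposition attached to a closed and open immersion and its complement -/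
noncomputable def decompOfClopen {X Y W : Obj V} (iY : Y ⟶ W) [IsProper iY.hom] (iX : X ⟶ W)
    (h : Set.range iX.hom = (Set.range iY.hom)ᶜ) : Decomp W where
  Z := Y
  U := X
  i := iY.hom
  closedImm := .of_isPreimmersion iY.hom iY.hom.isClosedMap.isClosed_range
  j := iX
  range_eq := h

lemma decompOfClopen_codim {X Y W : Obj V} (iY : Y ⟶ W) [IsProper iY.hom] (iX : X ⟶ W)
    (h : Set.range iX.hom = (Set.range iY.hom)ᶜ) : (decompOfClopen iY iX h).codim = 0 :=
  relCodim_hom iY

lemma pull_pushC_compl {X Y W : Obj V} (iY : Y ⟶ W) [IsProper iY.hom] (iX : X ⟶ W)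
    (h : Set.range iX.hom = (Set.range iY.hom)ᶜ) (M : A.Cat) (i n : ℤ) (a : T.gp Y M i n) :
    (T.pull iX M i n).hom ((pushC T iY M i n).hom a) = 0 := by
  obtain ⟨k, rfl⟩ : ∃ k, i = k + 1 := ⟨i - 1, by ring⟩
  exact (T.exact_push_pull (decompOfClopen iY iX h) M k n (k + 1) n
    (by simp [decompOfClopen, relCodim_hom iY])
    (by simp [decompOfClopen, relCodim_hom iY])).apply_apply_eq_zero a

lemma isProper_of_range_eq {X Y W : Obj V} (iX : X ⟶ W) (iY : Y ⟶ W)
    (h : Set.range iX.hom = (Set.range iY.hom)ᶜ) : IsProper iY.hom := by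
  have : IsClosed (Set.range iY.hom) := by
    rw [← isOpen_compl_iff, ← h]
    exact iX.hom.isOpenEmbedding.isOpen_range
  have := isClosedImmersion_hom iY this
  infer_instance

/-- a clopen decomposition splits the groups -/
lemma pull_prod_bijective {X Y W : Obj V} (iX : X ⟶ W) (iY : Y ⟶ W)
    (h : Set.range iX.hom = (Set.range iY.hom)ᶜ) (M : A.Cat) (i n : ℤ) :
    Function.Bijective (fun a : T.gp W M i n =>
      ((T.pull iX M i n).hom a, (T.pull iY M i n).hom a)) := by
  have := isProper_of_range_eq iX iY h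
  constructor
  · intro a a' he
    simp only [Prod.mk.injEq] at he
    obtain ⟨he₁, he₂⟩ := he
    obtain ⟨k, rfl⟩ : ∃ k, i = k + 1 := ⟨i - 1, by ring⟩
    obtain ⟨b, hb⟩ := (T.exact_push_pull (decompOfClopen iY iX h) M k n (k + 1) n
      (by simp [decompOfClopen, relCodim_hom iY])
      (by simp [decompOfClopen, relCodim_hom iY]) (a - a')).1
      (by rw [map_sub]; exact sub_eq_zero.2 he₁)
    have hb' : (pushC T iY M (k + 1) n).hom b = a - a' := hb
    have h2 : b = 0 := by
      rw [← pull_pushC T iY M (k + 1) n b, hb', map_sub]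
      exact sub_eq_zero.2 he₂
    exact sub_eq_zero.1 (hb'.symm.trans ((congr_arg _ h2).trans (map_zero (pushC T iY M (k + 1) n).hom)))
  · rintro ⟨x, y⟩
    have hi : i + 1 = i + 1 - 2 * (decompOfClopen iY iX h).codim := by
      rw [decompOfClopen_codim]; ring
    have hn : n = n - (decompOfClopen iY iX h).codim := by rw [decompOfClopen_codim]; ring
    have hz : (T.res (decompOfClopen iY iX h) M i n (i + 1) n hi hn).hom x = 0 := by
      have h2 : (pushC T iY M (i + 1) n).hom
          ((T.res (decompOfClopen iY iX h) M i n (i + 1) n hi hn).hom x) = 0 :=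
        (T.exact_res_push (decompOfClopen iY iX h) M i n (i + 1) n hi hn
          (by simp [decompOfClopen, relCodim_hom iY])
          (by simp [decompOfClopen, relCodim_hom iY])).apply_apply_eq_zero x
      have h3 := congr_arg (T.pull iY M (i + 1) n).hom h2
      rw [map_zero] at h3
      exact (pull_pushC T iY M (i + 1) n _).symm.trans h3
    obtain ⟨a₀, ha₀⟩ := (T.exact_pull_res (decompOfClopen iY iX h) M i n (i + 1) n hi hn x).1 hz
    have ha₁ : (T.pull iX M i n).hom a₀ = x := ha₀
    refine ⟨a₀ + (pushC T iY M i n).hom (y - (T.pull iY M i n).hom a₀), Prod.ext ?_ ?_⟩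
    · show (T.pull iX M i n).hom _ = _
      rw [map_add, pull_pushC_compl T iY iX h, add_zero, ha₁]
    · show (T.pull iY M i n).hom _ = _
      rw [map_add, pull_pushC, add_sub_cancel]

/-- pushing from a clopen piece, then restricting to a disjoint one -/
lemma pull_pushC_disjoint {X Y W : Obj V} (g : Y ⟶ W) [IsProper g.hom] (h : X ⟶ W)
    (hd : Disjoint (Set.range h.hom) (Set.range g.hom)) (M : A.Cat) (i n : ℤ)
    (a : T.gp Y M i n) : (T.pull h M i n).hom ((pushC T g M i n).hom a) = 0 := by
  let O : W.scheme.Opens := ⟨(Set.range g.hom)ᶜ, g.hom.isClosedMap.isClosed_range.isOpen_compl⟩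
  have hle : Set.range h.hom ⊆ Set.range O.ι := by
    rw [Scheme.Opens.range_ι]
    exact fun x hx hx' => Set.disjoint_left.1 hd hx hx'
  let k : X.scheme ⟶ O := IsOpenImmersion.lift O.ι h.hom hle
  have hk : k ≫ O.ι = h.hom := IsOpenImmersion.lift_fac _ _ _
  have : IsOpenImmersion (k ≫ O.ι) := by rw [hk]; infer_instance
  have : IsOpenImmersion k := IsOpenImmersion.of_comp k O.ι
  have hdimO : WeilCoh.dim (O : Scheme.{u}) = WeilCoh.dim W.scheme := by
    refine le_antisymm (dim_opens_le W O) ?_
    rw [← h.dim_eq]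
    refine dim_le_of_forall_pdim_le (finDim X) fun x => ?_
    exact (pdim_map_le k (finDim (W.res O)) x).trans (pdim_le_dim (finDim (W.res O)) _)
  let k' : X ⟶ W.res O := ⟨k, inferInstance, h.dim_eq.trans hdimO.symm⟩
  have e : k' ≫ W.resι O hdimO = h := hom_ext hk
  rw [← e, ← pull_comp, pull_pushC_compl T g (W.resι O hdimO) (Scheme.Opens.range_ι O), map_zero]

/-- the groups of an empty object vanish -/
lemma gp_eq_zero_of_isEmpty (X : Obj V) [IsEmpty X.scheme] (M : A.Cat) (i n : ℤ)
    (a : T.gp X M i n) : a = 0 := by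
  have : IsProper (𝟙 X : X ⟶ X).hom := inferInstanceAs (IsProper (𝟙 X.scheme))
  have h := pull_pushC_disjoint T (𝟙 X) (𝟙 X)
    (Set.disjoint_left.2 fun x => isEmptyElim x) M i n a
  rw [pull_id] at h
  rw [← pull_pushC T (𝟙 X) M i n a, pull_id, h]

/-- restriction along a surjective morphism of objects is bijective -/
lemma pull_bijective_of_surjective {X Y : Obj V} (g : X ⟶ Y) (h : Function.Surjective g.hom)
    (M : A.Cat) (i n : ℤ) : Function.Bijective (T.pull g M i n).hom := by
  have : AlgebraicGeometry.Surjective g.hom := ⟨h⟩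
  have : IsIso g.hom := isIso_of_isOpenImmersion_of_opensRange_eq_top g.hom
    (Opens.ext h.range_eq)
  let g' : Y ⟶ X := ⟨inv g.hom, inferInstance, g.dim_eq.symm⟩
  refine Function.bijective_iff_has_inverse.2 ⟨(T.pull g' M i n).hom, fun a => ?_, fun a => ?_⟩
  · rw [pull_comp, pull_congr T (g := 𝟙 Y) (by simp [g']), pull_id]
  · rw [pull_comp, pull_congr T (g := 𝟙 X) (by simp [g']), pull_id]

end GrothLib.BMGysin
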