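/-
A reduced locally closed piece of an object, split by the closures of finitely many points.
-/
import Groth.Agent.Lib.BMGysin.Clopen

set_option autoImplicit false
universe u

open AlgebraicGeometry CategoryTheory CategoryTheory.Limits Opposite TopologicalSpace BMCoh
open GrothLib

namespace GrothLib.BMGysin

variable {V : ObjectProperty Scheme.{u}} [IsConstructible V]

/-- a morphism of objects into an open shows that the open has full dimension -/
lemma dim_open_eq_of_range_le {X Z : Obj V} (h : X ⟶ Z) (O : Z.scheme.Opens)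
    (hO : Set.range h.hom ⊆ (O : Set Z.scheme)) :
    WeilCoh.dim (O : Scheme.{u}) = WeilCoh.dim Z.scheme := by
  refine le_antisymm (dim_opens_le Z O) ?_
  rw [← h.dim_eq]
  let k : X.scheme ⟶ O := IsOpenImmersion.lift O.ι h.hom (by rw [Scheme.Opens.range_ι]; exact hO)
  have : IsOpenImmersion (k ≫ O.ι) := by
    rw [show k ≫ O.ι = h.hom from IsOpenImmersion.lift_fac _ _ _]; infer_instance
  have : IsOpenImmersion k := IsOpenImmersion.of_comp k O.ι
  refine dim_le_of_forall_pdim_le (finDim X) fun x => ?_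
  exact (pdim_map_le k (finDim (Z.res O)) x).trans (pdim_le_dim (finDim (Z.res O)) _)

/-- corestriction of a morphism of objects to an open containing its range -/
noncomputable def corestrict {X Z : Obj V} (h : X ⟶ Z) (O : Z.scheme.Opens)
    (hO : Set.range h.hom ⊆ (O : Set Z.scheme)) : X ⟶ Z.res O :=
  ⟨IsOpenImmersion.lift O.ι h.hom (by rw [Scheme.Opens.range_ι]; exact hO),
    by
      have : IsOpenImmersion (IsOpenImmersion.lift O.ι h.hom
          (by rw [Scheme.Opens.range_ι]; exact hO) ≫ O.ι) := by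
        rw [IsOpenImmersion.lift_fac]; infer_instance
      exact IsOpenImmersion.of_comp _ O.ι,
    h.dim_eq.trans (dim_open_eq_of_range_le h O hO).symm⟩

lemma corestrict_fac {X Z : Obj V} (h : X ⟶ Z) (O : Z.scheme.Opens)
    (hO : Set.range h.hom ⊆ (O : Set Z.scheme)) :
    corestrict h O hO ≫ Z.resι O (dim_open_eq_of_range_le h O hO) = h :=
  hom_ext (IsOpenImmersion.lift_fac _ _ _)

lemma corestrict_apply {X Z : Obj V} (h : X ⟶ Z) (O : Z.scheme.Opens)
    (hO : Set.range h.hom ⊆ (O : Set Z.scheme)) (x : X.scheme) :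
    ((corestrict h O hO).hom x).1 = h.hom x := by
  conv_rhs => rw [← corestrict_fac h O hO]
  rfl

lemma resLE_val {X : Obj V} {U U' : X.scheme.Opens} (h : U ≤ U')
    (hd : WeilCoh.dim (U : Scheme.{u}) = WeilCoh.dim (U' : Scheme.{u})) (q : (X.res U).scheme) :
    ((X.resLE h hd).hom q).1 = q.1 :=
  Scheme.homOfLE_apply h q

/-- a reduced locally closed subscheme, the disjoint union of the traces of finitely many closures -/
structure Pieces (X : Obj V) where
  Z : Obj V
  κ : Z.scheme ⟶ X.scheme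
  imm : IsImmersion κ
  red : IsReduced Z.scheme
  V₀ : X.scheme.Opens
  s : Finset X.scheme
  d : ℕ
  nonempty : s.Nonempty
  mem : ∀ x ∈ s, x ∈ V₀
  pdim_eq : ∀ x ∈ s, WeilCoh.pdim X.scheme x = d
  range_eq : Set.range κ = {z : X.scheme | z ∈ V₀ ∧ ∃ x ∈ s, x ⤳ z}
  disj : ∀ z ∈ V₀, ∀ x ∈ s, ∀ y ∈ s, x ⤳ z → y ⤳ z → x = y

namespace Pieces

variable {X : Obj V} (P : Pieces X)

attribute [instance] Pieces.imm Pieces.red

/-- the trace on `V₀` of the closure of a point of `s`, as an index -/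
noncomputable def W (x : P.s) : ptIdx X x.1 :=
  mkPtIdx X (X.ptSubι x.1 ⁻¹ᵁ P.V₀) (by
    have hx : x.1 ∈ Set.range (X.ptSubι x.1) := by rw [range_ptSubι]; exact subset_closure rfl
    obtain ⟨z, hz⟩ := hx
    exact ⟨z, show (X.ptSubι x.1) z ∈ P.V₀ by rw [hz]; exact P.mem _ x.2⟩)

lemma W_val (x : P.s) : (P.W x).1 = X.ptSubι x.1 ⁻¹ᵁ P.V₀ := rfl

lemma range_W (x : P.s) :
    Set.range ((P.W x).1.ι ≫ X.ptSubι x.1) = {z : X.scheme | z ∈ P.V₀ ∧ x.1 ⤳ z} := by
  rw [Scheme.Hom.comp_base, TopCat.coe_comp, Set.range_comp]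
  show (X.ptSubι x.1).base '' Set.range (P.W x).1.ι = _
  rw [Scheme.Opens.range_ι]
  show (X.ptSubι x.1).base '' ((X.ptSubι x.1).base ⁻¹' P.V₀) = _
  rw [Set.image_preimage_eq_inter_range, range_ptSubι]
  ext z
  simp [specializes_iff_mem_closure]

lemma exists_g (x : P.s) :
    ∃ g : ((X.ptSub x.1).res (P.W x).1).scheme ⟶ P.Z.scheme,
      g ≫ P.κ = (P.W x).1.ι ≫ X.ptSubι x.1 := by
  refine RedSub.exists_lift _ _ ?_
  rw [P.range_eq]
  exact (P.range_W x).le.trans fun z hz => ⟨hz.1, x.1, x.2, hz.2⟩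

/-- the inclusion of a piece, as a morphism of schemes -/
noncomputable def g₀ (x : P.s) : ((X.ptSub x.1).res (P.W x).1).scheme ⟶ P.Z.scheme :=
  (P.exists_g x).choose

lemma g₀_fac (x : P.s) : P.g₀ x ≫ P.κ = (P.W x).1.ι ≫ X.ptSubι x.1 :=
  (P.exists_g x).choose_spec

lemma κ_mem (z : P.Z.scheme) : P.κ z ∈ P.V₀ ∧ ∃ x ∈ P.s, x ⤳ P.κ z :=
  P.range_eq.le (Set.mem_range_self z)

lemma range_g₀ (x : P.s) : Set.range (P.g₀ x) = P.κ ⁻¹' closure {x.1} := by
  ext z
  constructor
  · rintro ⟨w, rfl⟩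
    have := (P.range_W x).le (Set.mem_range_self w)
    rw [← P.g₀_fac] at this
    exact specializes_iff_mem_closure.1 this.2
  · intro hz
    obtain ⟨w, hw⟩ := (P.range_W x).ge ⟨(P.κ_mem z).1, specializes_iff_mem_closure.2 hz⟩
    refine ⟨w, P.κ.isEmbedding.injective ?_⟩
    rw [← P.g₀_fac] at hw
    exact hw

lemma isClosed_range_g₀ (x : P.s) : IsClosed (Set.range (P.g₀ x)) := by
  rw [range_g₀]
  exact isClosed_closure.preimage P.κ.continuous

lemma isImmersion_g₀ (x : P.s) : IsImmersion (P.g₀ x) := by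
  have : IsImmersion (P.g₀ x ≫ P.κ) := by rw [g₀_fac]; infer_instance
  exact .of_comp (P.g₀ x) P.κ

lemma isOpenImmersion_g₀ (x : P.s) : IsOpenImmersion (P.g₀ x) := by
  classical
  have := P.isImmersion_g₀ x
  refine RedSub.isOpenImmersion_of_isOpen_range _ ?_
  have h : Set.range (P.g₀ x) =
      (⋃ y ∈ (Finset.univ : Finset P.s).erase x, Set.range (P.g₀ y))ᶜ := by
    ext z
    simp only [Set.mem_compl_iff, Set.mem_iUnion, Finset.mem_erase, Finset.mem_univ, and_true,
      exists_prop, not_exists, not_and]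
    obtain ⟨hz, y, hy, hyz⟩ := P.κ_mem z
    constructor
    · intro hx y hne hy'
      rw [range_g₀] at hx hy'
      exact hne (Subtype.ext (P.disj _ hz _ y.2 _ x.2 (specializes_iff_mem_closure.2 hy')
        (specializes_iff_mem_closure.2 hx)))
    · intro h
      by_contra hx
      refine h ⟨y, hy⟩ ?_ ?_
      · rintro rfl
        exact hx (by rw [range_g₀]; exact specializes_iff_mem_closure.1 hyz)
      · rw [range_g₀]; exact specializes_iff_mem_closure.1 hyz
  rw [h, isOpen_compl_iff]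
  exact Set.Finite.isClosed_biUnion (Finset.finite_toSet _) fun y _ => P.isClosed_range_g₀ y

lemma dim_Z : WeilCoh.dim P.Z.scheme = P.d := by
  obtain ⟨x, hx⟩ := P.nonempty
  refine le_antisymm ?_ ?_
  · refine dim_le_of_forall_pdim_le (finDim P.Z) fun z => ?_
    obtain ⟨-, y, hy, hyz⟩ := P.κ_mem z
    exact ((pdim_map_le P.κ (finDim X) z).trans (pdim_mono (finDim X) hyz)).trans
      (P.pdim_eq y hy).le
  · have := P.isImmersion_g₀ ⟨x, hx⟩
    rw [← P.pdim_eq x hx, ← dim_open_ptSub X x (P.W ⟨x, hx⟩).1 (P.W ⟨x, hx⟩).2.1]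
    refine dim_le_of_forall_pdim_le (finDim ((X.ptSub x).res (P.W ⟨x, hx⟩).1)) fun w => ?_
    exact (pdim_map_le (P.g₀ ⟨x, hx⟩) (finDim P.Z) w).trans (pdim_le_dim (finDim P.Z) _)

/-- the inclusion of a piece, as a morphism of objects -/
noncomputable def g (x : P.s) : (X.ptSub x.1).res (P.W x).1 ⟶ P.Z :=
  ⟨P.g₀ x, P.isOpenImmersion_g₀ x, by
    rw [dim_Z, ← P.pdim_eq _ x.2]
    exact dim_open_ptSub X x.1 (P.W x).1 (P.W x).2.1⟩

lemma g_fac (x : P.s) : (P.g x).hom ≫ P.κ = (P.W x).1.ι ≫ X.ptSubι x.1 := P.g₀_fac x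

lemma range_g (x : P.s) : Set.range (P.g x).hom = P.κ ⁻¹' closure {x.1} := P.range_g₀ x

instance isClosedImmersion_g (x : P.s) : IsClosedImmersion (P.g x).hom :=
  isClosedImmersion_hom _ (P.isClosed_range_g₀ x)

lemma range_g_disjoint {x y : P.s} (h : x ≠ y) :
    Disjoint (Set.range (P.g x).hom) (Set.range (P.g y).hom) := by
  rw [range_g, range_g]
  refine Set.disjoint_left.2 fun z hx hy => h (Subtype.ext ?_)
  exact P.disj _ (P.κ_mem z).1 _ x.2 _ y.2 (specializes_iff_mem_closure.2 hx)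
    (specializes_iff_mem_closure.2 hy)

lemma iUnion_range_g : (⋃ x : P.s, Set.range (P.g x).hom) = Set.univ := by
  refine Set.eq_univ_of_forall fun z => ?_
  obtain ⟨-, y, hy, hyz⟩ := P.κ_mem z
  exact Set.mem_iUnion.2 ⟨⟨y, hy⟩, by rw [range_g]; exact specializes_iff_mem_closure.1 hyz⟩

variable {R : Type u} [CommRing R] {A : Coefs R} (T : PreTheory V R A) (M : A.Cat) (i n : ℤ)

lemma pull_g_pushC_g (x : P.s) (a : T.gp ((X.ptSub x.1).res (P.W x).1) M i n) :
    (T.pull (P.g x) M i n).hom ((pushC T (P.g x) M i n).hom a) = a :=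
  pull_pushC T _ M i n a

lemma pull_g_pushC_g_of_ne {x y : P.s} (h : y ≠ x)
    (a : T.gp ((X.ptSub x.1).res (P.W x).1) M i n) :
    (T.pull (P.g y) M i n).hom ((pushC T (P.g x) M i n).hom a) = 0 :=
  pull_pushC_disjoint T _ _ (P.range_g_disjoint h) M i n a

lemma eq_zero_of_forall_pull (z : T.gp P.Z M i n)
    (h : ∀ x : P.s, (T.pull (P.g x) M i n).hom z = 0) : z = 0 := by
  classical
  let O : Finset P.s → P.Z.scheme.Opens := fun t => ⟨⋃ x ∈ t, Set.range (P.g x).hom,
    isOpen_biUnion fun x _ => (P.g x).hom.isOpenEmbedding.isOpen_range⟩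
  have hle : ∀ t, ∀ x ∈ t, Set.range (P.g x).hom ⊆ (O t : Set P.Z.scheme) :=
    fun t x hx => Set.subset_biUnion_of_mem (u := fun y : P.s => Set.range (P.g y).hom) hx
  have key : ∀ t : Finset P.s, t.Nonempty → ∀ hd : WeilCoh.dim (O t : Scheme.{u}) = WeilCoh.dim P.Z.scheme,
      (T.pull (P.Z.resι (O t) hd) M i n).hom z = 0 := by
    intro t ht
    induction ht using Finset.Nonempty.cons_induction with
    | singleton a =>
      intro hd
      refine (pull_bijective_of_surjective T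
        (corestrict (P.g a) (O {a}) (hle _ a (Finset.mem_singleton_self a))) ?_ M i n).1 ?_
      · rintro ⟨w, hw⟩
        simp only [O, Finset.mem_singleton, Set.iUnion_iUnion_eq_left] at hw
        obtain ⟨v, rfl⟩ := hw
        exact ⟨v, Subtype.ext (corestrict_apply (P.g a) (O {a}) _ v)⟩
      · rw [pull_comp, corestrict_fac, h a, map_zero]
    | cons a t hat ht ih =>
      intro hd
      obtain ⟨b, hb⟩ := ht
      let O' := O (Finset.cons a t hat)
      have hOt : O t ≤ O' := Set.biUnion_subset_biUnion_left fun x hx => Finset.mem_cons_of_mem hx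
      have hdt : WeilCoh.dim (O t : Scheme.{u}) = WeilCoh.dim P.Z.scheme :=
        dim_open_eq_of_range_le (P.g b) _ (hle t b hb)
      let ka := corestrict (P.g a) O' (hle _ a (Finset.mem_cons_self a t))
      let kt : P.Z.res (O t) ⟶ P.Z.res O' := P.Z.resLE hOt (hdt.trans hd.symm)
      have hr : Set.range ka.hom = (Set.range kt.hom)ᶜ := by
        ext ⟨w, hw⟩
        constructor
        · rintro ⟨v, hv⟩ ⟨⟨v', hv'⟩, hvv'⟩
          have e₁ := (corestrict_apply _ _ _ v).symm.trans (congrArg Subtype.val hv)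
          have e₂ : v' = w := ((resLE_val _ _ _).symm.trans (congrArg Subtype.val hvv'))
          subst e₂
          obtain ⟨x, hx, hvx⟩ := Set.mem_iUnion₂.1 hv'
          exact Set.disjoint_left.1 (P.range_g_disjoint (x := a) (y := x)
            (fun e => hat (e ▸ hx))) ⟨v, e₁⟩ hvx
        · intro hn
          obtain ⟨x, hx, hwx⟩ := Set.mem_iUnion₂.1 hw
          rw [Finset.mem_cons] at hx
          obtain rfl | hx := hx
          · obtain ⟨v, hv⟩ := hwx
            exact ⟨v, Subtype.ext ((corestrict_apply _ _ _ v).trans hv)⟩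
          · exact absurd ⟨⟨w, Set.mem_iUnion₂.2 ⟨x, hx, hwx⟩⟩,
              Subtype.ext (resLE_val _ _ _)⟩ hn
      refine (pull_prod_bijective T ka kt hr M i n).1 (Prod.ext ?_ ?_)
      · show (T.pull ka M i n).hom _ = (T.pull ka M i n).hom 0
        rw [pull_comp, corestrict_fac, h a, map_zero]
      · show (T.pull kt M i n).hom _ = (T.pull kt M i n).hom 0
        rw [pull_comp, pull_congr T (g := P.Z.resι (O t) hdt) (Scheme.homOfLE_ι P.Z.scheme hOt), ih hdt,
          map_zero]
  obtain ⟨x, hx⟩ := P.nonempty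
  have hO : O Finset.univ = ⊤ := Opens.ext (by simpa [O] using P.iUnion_range_g)
  have hd : WeilCoh.dim (O Finset.univ : Scheme.{u}) = WeilCoh.dim P.Z.scheme := by
    rw [hO, dim_top]
  refine (pull_bijective_of_surjective T (P.Z.resι (O Finset.univ) hd) ?_ M i n).1 ?_
  · intro w
    exact ⟨⟨w, by rw [hO]; trivial⟩, rfl⟩
  · rw [key _ ⟨⟨x, hx⟩, Finset.mem_univ _⟩ hd, map_zero]

/-- a class is the sum of the push-forwards of its pieces -/
lemma sum_pushC_pull (z : T.gp P.Z M i n) :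
    ∑ x : P.s, (pushC T (P.g x) M i n).hom ((T.pull (P.g x) M i n).hom z) = z := by
  classical
  refine (sub_eq_zero.1 (P.eq_zero_of_forall_pull T M i n _ fun y => ?_)).symm.symm
  rw [map_sub, map_sum, Finset.sum_eq_single y, pull_g_pushC_g, sub_self]
  · intro x _ hx
    exact P.pull_g_pushC_g_of_ne T M i n hx.symm _
  · simp

/-- prescribed components -/
lemma exists_pull_eq (w : ∀ x : P.s, T.gp ((X.ptSub x.1).res (P.W x).1) M i n) :
    ∃ z : T.gp P.Z M i n, ∀ x : P.s, (T.pull (P.g x) M i n).hom z = w x := by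
  classical
  refine ⟨∑ x : P.s, (pushC T (P.g x) M i n).hom (w x), fun y => ?_⟩
  rw [map_sum, Finset.sum_eq_single y, pull_g_pushC_g]
  · intro x _ hx
    exact P.pull_g_pushC_g_of_ne T M i n hx.symm _
  · simp

end Pieces

end GrothLib.BMGysin
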