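/-
Slices: a pair of opens `U ≤ V` with `U ⊇ F_j`, `V ⊇ F_(j+1)`, whose difference is the disjoint
union of the traces of finitely many closures of points of codimension `j + 1`.
-/
import Groth.Agent.Lib.BMGysin.Pieces

set_option autoImplicit false
universe u

open AlgebraicGeometry CategoryTheory CategoryTheory.Limits Opposite TopologicalSpace BMCoh
open GrothLib

namespace GrothLib.BMGysin

variable {V : ObjectProperty Scheme.{u}} [IsConstructible V]

lemma exists_finite_generic {X : Obj V} {Z : Set X.scheme} (hZ : IsClosed Z) :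
    ∃ G : Set X.scheme, G.Finite ∧ G ⊆ Z ∧ ∀ z ∈ Z, ∃ g ∈ G, g ⤳ z := by
  obtain ⟨S, hSf, hc, hi, hS⟩ := NoetherianSpace.exists_finite_set_isClosed_irreducible hZ
  choose gen hgen using fun t : S => QuasiSober.sober (hi t.1 t.2) (hc t.1 t.2)
  have := hSf.to_subtype
  refine ⟨Set.range gen, Set.finite_range _, ?_, fun z hz => ?_⟩
  · rintro _ ⟨t, rfl⟩
    rw [hS]
    exact ⟨t.1, t.2, (hgen t).mem⟩
  · rw [hS] at hz
    obtain ⟨t, ht, hzt⟩ := hz
    exact ⟨gen ⟨t, ht⟩, ⟨_, rfl⟩, (hgen ⟨t, ht⟩).specializes hzt⟩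

lemma finite_codim_not_mem {X : Obj V} {j : ℕ} (U : Idx X (ContainsFj X j)) :
    {x : X.scheme | WeilCoh.codim X.scheme x = j + 1 ∧ x ∉ U.1}.Finite := by
  obtain ⟨G, hGf, hGU, hG⟩ := exists_finite_generic (X := X) U.1.isOpen.isClosed_compl
  refine hGf.subset fun x hx => ?_
  obtain ⟨g, hg, hgx⟩ := hG x hx.2
  have h1 : j < WeilCoh.codim X.scheme g := not_le.1 fun h => hGU hg (U.2.1 g h)
  rwa [← eq_of_codim_le (finDim X) hgx (by rw [hx.1]; omega)]

/-- a slice -/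
structure Slice (X : Obj V) (j : ℕ) where
  U : Idx X (ContainsFj X j)
  V : Idx X (ContainsFj X (j + 1))
  le : U.1 ≤ V.1
  cover : ∀ z ∈ V.1, z ∉ U.1 → ∃ x, WeilCoh.codim X.scheme x = j + 1 ∧ x ∉ U.1 ∧ x ⤳ z
  uniq : ∀ z ∈ V.1, z ∉ U.1 → ∀ x y, WeilCoh.codim X.scheme x = j + 1 → x ∉ U.1 →
    WeilCoh.codim X.scheme y = j + 1 → y ∉ U.1 → x ⤳ z → y ⤳ z → x = y
  exists_pt : ∃ x, WeilCoh.codim X.scheme x = j + 1 ∧ x ∉ U.1

namespace Slice

variable {X : Obj V} {j : ℕ} (S : Slice X j)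

lemma mem_V {x : X.scheme} (hx : WeilCoh.codim X.scheme x = j + 1) : x ∈ S.V.1 := S.V.2.1 x hx.le

/-- the complement of `U` in `V` -/
def C : Closeds (S.V.1 : Scheme.{u}) :=
  ⟨S.V.1.ι.base ⁻¹' ((S.U.1 : Set X.scheme)ᶜ),
    S.U.1.isOpen.isClosed_compl.preimage S.V.1.ι.continuous⟩

/-- its reduced structure -/
noncomputable def Zobj : Obj V :=
  ⟨(Scheme.IdealSheafData.vanishingIdeal S.C).subscheme,
    IsConstructible.of_isClosedImmersion (Scheme.IdealSheafData.vanishingIdeal S.C).subschemeι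
      (h := inferInstance) (X.res S.V.1).mem⟩

/-- the closed immersion into `V` -/
noncomputable def i : S.Zobj.scheme ⟶ (X.res S.V.1).scheme :=
  (Scheme.IdealSheafData.vanishingIdeal S.C).subschemeι

instance : IsClosedImmersion S.i :=
  inferInstanceAs (IsClosedImmersion (Scheme.IdealSheafData.vanishingIdeal S.C).subschemeι)

lemma range_i : Set.range S.i = S.V.1.ι.base ⁻¹' ((S.U.1 : Set X.scheme)ᶜ) :=
  RedSub.range_subschemeι_vanishingIdeal S.C

lemma range_κ : Set.range (S.i ≫ S.V.1.ι) =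
    {z : X.scheme | z ∈ S.V.1 ∧ z ∉ S.U.1} := by
  rw [Scheme.Hom.comp_base, TopCat.coe_comp, Set.range_comp]
  erw [S.range_i]
  rw [Set.image_preimage_eq_inter_range, Scheme.Opens.range_ι]
  ext z
  simp [and_comm]

/-- the finite set of points of codimension `j + 1` outside `U` -/
noncomputable def pts : Finset X.scheme := (finite_codim_not_mem S.U).toFinset

lemma mem_pts {x : X.scheme} : x ∈ S.pts ↔ WeilCoh.codim X.scheme x = j + 1 ∧ x ∉ S.U.1 :=
  Set.Finite.mem_toFinset _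

/-- the pieces of a slice -/
noncomputable def P : Pieces X where
  Z := S.Zobj
  κ := S.i ≫ S.V.1.ι
  imm := inferInstanceAs (IsImmersion (S.i ≫ S.V.1.ι))
  red := RedSub.isReduced_subscheme_vanishingIdeal S.C
  V₀ := S.V.1
  s := S.pts
  d := WeilCoh.dim X.scheme - (j + 1)
  nonempty := S.exists_pt.imp fun _ hx => S.mem_pts.2 hx
  mem x hx := S.mem_V (S.mem_pts.1 hx).1
  pdim_eq x hx := by
    have := pdim_add_codim (finDim X) x
    rw [(S.mem_pts.1 hx).1] at this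
    omega
  range_eq := by
    rw [S.range_κ]
    ext z
    constructor
    · rintro ⟨hzV, hzU⟩
      obtain ⟨x, hx, hxU, hxz⟩ := S.cover z hzV hzU
      exact ⟨hzV, x, S.mem_pts.2 ⟨hx, hxU⟩, hxz⟩
    · rintro ⟨hzV, x, hx, hxz⟩
      exact ⟨hzV, fun hzU => (S.mem_pts.1 hx).2 (hxz.mem_open S.U.1.isOpen hzU)⟩
  disj z hz x hx y hy hxz hyz :=
    S.uniq z hz (fun hzU => (S.mem_pts.1 hx).2 (hxz.mem_open S.U.1.isOpen hzU)) x y
      (S.mem_pts.1 hx).1 (S.mem_pts.1 hx).2 (S.mem_pts.1 hy).1 (S.mem_pts.1 hy).2 hxz hyz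

/-- the decomposition of `V` -/
noncomputable def D : Decomp (X.res S.V.1) where
  Z := S.P.Z
  U := X.res S.U.1
  i := S.i
  closedImm := inferInstanceAs (IsClosedImmersion S.i)
  j := Idx.res X S.U S.V S.le
  range_eq := by
    show Set.range (X.scheme.homOfLE S.le) = (Set.range S.i)ᶜ
    rw [range_i]
    ext z
    constructor
    · rintro ⟨w, rfl⟩ h
      exact h (by
        show S.V.1.ι ((X.scheme.homOfLE S.le) w) ∈ S.U.1
        rw [← Scheme.Hom.comp_apply, Scheme.homOfLE_ι]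
        exact w.2)
    · intro h
      exact ⟨⟨z.1, not_not.1 h⟩, Subtype.ext (Scheme.homOfLE_apply _ _)⟩

lemma dim_eq : WeilCoh.dim S.P.Z.scheme + (j + 1) = WeilCoh.dim X.scheme := by
  obtain ⟨x, hx, -⟩ := S.exists_pt
  have := pdim_add_codim (finDim X) x
  rw [S.P.dim_Z]
  show WeilCoh.dim X.scheme - (j + 1) + (j + 1) = _
  omega

lemma relCodim_eq : relCodim S.P.Z.scheme (X.res S.V.1).scheme = (j : ℤ) + 1 := by
  have := S.dim_eq
  have h2 : WeilCoh.dim (X.res S.V.1).scheme = WeilCoh.dim X.scheme := S.V.2.2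
  simp only [relCodim, h2]
  omega

lemma codim_D : S.D.codim = (j : ℤ) + 1 := S.relCodim_eq

variable {R : Type u} [CommRing R] {A : Coefs R} (T : PreTheory V R A) (M : A.Cat)

/-- the residue of a slice -/
noncomputable def res {i n i' n' : ℤ} (hi : i' = i + 1 - 2 * ((j : ℤ) + 1))
    (hn : n' = n - ((j : ℤ) + 1)) : T.gp (X.res S.U.1) M i n ⟶ T.gp S.P.Z M i' n' :=
  T.res S.D M i n i' n' (by rw [S.codim_D]; exact hi) (by rw [S.codim_D]; exact hn)

/-- the push-forward of a slice -/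
noncomputable def push {i n i' n' : ℤ} (hi : i' = i + 2 * ((j : ℤ) + 1))
    (hn : n' = n + ((j : ℤ) + 1)) : T.gp S.P.Z M i n ⟶ T.gp (X.res S.V.1) M i' n' :=
  T.push S.D.i M i n i' n' (by rw [show relCodim S.D.Z.scheme _ = _ from S.relCodim_eq]; exact hi)
    (by rw [show relCodim S.D.Z.scheme _ = _ from S.relCodim_eq]; exact hn)

lemma exact_pull_res {i n i' n' : ℤ} (hi : i' = i + 1 - 2 * ((j : ℤ) + 1))
    (hn : n' = n - ((j : ℤ) + 1)) :
    Function.Exact (T.pull (Idx.res X S.U S.V S.le) M i n).hom (S.res T M hi hn).hom :=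
  T.exact_pull_res S.D M i n i' n' _ _

lemma exact_res_push {i n i' n' : ℤ} (hi : i' = i + 1 - 2 * ((j : ℤ) + 1))
    (hn : n' = n - ((j : ℤ) + 1)) (hi' : i + 1 = i' + 2 * ((j : ℤ) + 1))
    (hn' : n = n' + ((j : ℤ) + 1)) :
    Function.Exact (S.res T M hi hn).hom (S.push T M hi' hn').hom :=
  T.exact_res_push S.D M i n i' n' _ _ _ _

lemma exact_push_pull {i n i' n' : ℤ} (hi : i' = i + 2 * ((j : ℤ) + 1))
    (hn : n' = n + ((j : ℤ) + 1)) :
    Function.Exact (S.push T M hi hn).hom (T.pull (Idx.res X S.U S.V S.le) M i' n').hom := by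
  obtain ⟨k, rfl⟩ : ∃ k, i' = k + 1 := ⟨i' - 1, by ring⟩
  exact T.exact_push_pull S.D M k n' i n _ _

section Shrink

variable (V' : Idx X (ContainsFj X (j + 1))) (hle : V'.1 ≤ S.V.1)

/-- shrinking a slice -/
noncomputable def shrink : Slice X j where
  U := mkFjIdx X (S.U.1 ⊓ V'.1) fun y hy => ⟨S.U.2.1 y hy, V'.2.1 y (by omega)⟩
  V := V'
  le := inf_le_right
  cover z hz hzU := by
    obtain ⟨x, hx, hxU, hxz⟩ := S.cover z (hle hz) fun h => hzU ⟨h, hz⟩
    exact ⟨x, hx, fun h => hxU h.1, hxz⟩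
  uniq z hz hzU x y hx hxU hy hyU :=
    S.uniq z (hle hz) (fun h => hzU ⟨h, hz⟩) x y hx (fun h => hxU ⟨h, V'.2.1 x hx.le⟩) hy
      (fun h => hyU ⟨h, V'.2.1 y hy.le⟩)
  exists_pt := S.exists_pt.imp fun x hx => ⟨hx.1, fun h => hx.2 h.1⟩

lemma shrink_V : (S.shrink V' hle).V = V' := rfl

lemma shrink_U_le : (S.shrink V' hle).U.1 ≤ S.U.1 := inf_le_left

lemma mem_pts_shrink {x : X.scheme} : x ∈ (S.shrink V' hle).pts ↔ x ∈ S.pts := by
  rw [mem_pts, mem_pts]
  refine and_congr_right fun hx => not_congr ⟨fun h => h.1, fun h => ⟨h, V'.2.1 x hx.le⟩⟩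

/-- the point of the original slice -/
def pt (x : (S.shrink V' hle).P.s) : S.P.s := ⟨x.1, (S.mem_pts_shrink V' hle).1 x.2⟩

/-- the point of the shrunk slice -/
def pt' (x : S.P.s) : (S.shrink V' hle).P.s := ⟨x.1, (S.mem_pts_shrink V' hle).2 x.2⟩

lemma exists_gZ : ∃ g : (S.shrink V' hle).P.Z.scheme ⟶ S.P.Z.scheme,
    g ≫ S.P.κ = (S.shrink V' hle).P.κ := by
  refine RedSub.exists_lift _ _ ?_
  rw [Pieces.range_eq, Pieces.range_eq]
  rintro z ⟨hz, x, hx, hxz⟩
  exact ⟨hle hz, x, (S.mem_pts_shrink V' hle).1 hx, hxz⟩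

/-- the inclusion of the shrunk piece -/
noncomputable def gZ : (S.shrink V' hle).P.Z ⟶ S.P.Z :=
  ⟨(S.exists_gZ V' hle).choose, by
    have h := (S.exists_gZ V' hle).choose_spec
    have : IsImmersion ((S.exists_gZ V' hle).choose ≫ S.P.κ) := by rw [h]; infer_instance
    have : IsImmersion (S.exists_gZ V' hle).choose := .of_comp _ S.P.κ
    refine RedSub.isOpenImmersion_of_isOpen_range _ ?_
    have hr : Set.range (S.exists_gZ V' hle).choose = S.P.κ ⁻¹' (V'.1 : Set X.scheme) := by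
      ext z
      constructor
      · rintro ⟨w, rfl⟩
        have := ((S.shrink V' hle).P.κ_mem w).1
        rw [← h] at this
        exact this
      · intro hz
        obtain ⟨hzV, x, hx, hxz⟩ := S.P.κ_mem z
        obtain ⟨w, hw⟩ := (S.shrink V' hle).P.range_eq.ge
          ⟨hz, x, (S.mem_pts_shrink V' hle).2 hx, hxz⟩
        refine ⟨w, S.P.κ.isEmbedding.injective ?_⟩
        rw [← h] at hw
        exact hw
    rw [hr]
    exact V'.1.isOpen.preimage S.P.κ.continuous,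
    (S.shrink V' hle).P.dim_Z.trans S.P.dim_Z.symm⟩

lemma gZ_κ : (S.gZ V' hle).hom ≫ S.P.κ = (S.shrink V' hle).P.κ :=
  (S.exists_gZ V' hle).choose_spec

lemma gZ_i : (S.gZ V' hle).hom ≫ S.D.i =
    (S.shrink V' hle).D.i ≫ (Idx.res X V' S.V hle).hom := by
  rw [← cancel_mono S.V.1.ι]
  refine (Category.assoc _ _ _).trans ((S.gZ_κ V' hle).trans ?_)
  exact (congrArg ((S.shrink V' hle).D.i ≫ ·) (Scheme.homOfLE_ι X.scheme hle).symm).trans
    (Category.assoc _ _ _).symm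

lemma W_shrink_le (x : (S.shrink V' hle).P.s) :
    ((S.shrink V' hle).P.W x).1 ≤ (S.P.W (S.pt V' hle x)).1 := fun _ hz => hle hz

lemma g_gZ (x : (S.shrink V' hle).P.s) :
    (S.shrink V' hle).P.g x ≫ S.gZ V' hle =
      Idx.res (X.ptSub x.1) ((S.shrink V' hle).P.W x) (S.P.W (S.pt V' hle x))
        (S.W_shrink_le V' hle x) ≫ S.P.g (S.pt V' hle x) := by
  apply hom_ext
  rw [← cancel_mono S.P.κ, comp_hom, comp_hom, Category.assoc, Category.assoc, S.gZ_κ,
    Pieces.g_fac]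
  refine Eq.trans ?_ (congrArg (_ ≫ ·) (S.P.g_fac (S.pt V' hle x))).symm
  refine Eq.trans ?_ (Category.assoc _ _ _)
  exact congrArg (· ≫ X.ptSubι x.1)
    (Scheme.homOfLE_ι (X.ptSub x.1).scheme (S.W_shrink_le V' hle x)).symm

lemma res_shrink {i n i' n' : ℤ} (hi : i' = i + 1 - 2 * ((j : ℤ) + 1))
    (hn : n' = n - ((j : ℤ) + 1)) (b : T.gp (X.res S.U.1) M i n) :
    ((S.shrink V' hle).res T M hi hn).hom
        ((T.pull (Idx.res X (S.shrink V' hle).U S.U (S.shrink_U_le V' hle)) M i n).hom b) =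
      (T.pull (S.gZ V' hle) M i' n').hom ((S.res T M hi hn).hom b) := by
  have h2 : Idx.res X (S.shrink V' hle).U S.U (S.shrink_U_le V' hle) ≫ S.D.j =
      (S.shrink V' hle).D.j ≫ Idx.res X V' S.V hle := by
    apply hom_ext
    exact (X.scheme.homOfLE_homOfLE (S.shrink_U_le V' hle) S.le).trans
      (X.scheme.homOfLE_homOfLE (S.shrink V' hle).le hle).symm
  exact (ConcreteCategory.congr_hom (T.res_pull S.D (S.shrink V' hle).D (Idx.res X V' S.V hle)
    (S.gZ V' hle) (Idx.res X (S.shrink V' hle).U S.U (S.shrink_U_le V' hle))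
    (S.gZ_i V' hle) h2 M i n i' n' (by rw [S.codim_D]; exact hi) (by rw [S.codim_D]; exact hn)
    (by rw [codim_D]; exact hi) (by rw [codim_D]; exact hn)) b).symm

lemma push_shrink {i n i' n' : ℤ} (hi : i' = i + 2 * ((j : ℤ) + 1))
    (hn : n' = n + ((j : ℤ) + 1)) (z : T.gp S.P.Z M i n) :
    ((S.shrink V' hle).push T M hi hn).hom ((T.pull (S.gZ V' hle) M i n).hom z) =
      (T.pull (Idx.res X V' S.V hle) M i' n').hom ((S.push T M hi hn).hom z) := by
  have : IsOpenImmersion (S.gZ V' hle).hom := (S.gZ V' hle).isOpenImmersion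
  have : IsOpenImmersion (Idx.res X V' S.V hle).hom := (Idx.res X V' S.V hle).isOpenImmersion
  have hsq : IsPullback (S.gZ V' hle).hom (S.shrink V' hle).D.i S.D.i
      (Idx.res X V' S.V hle).hom := by
    refine (@IsOpenImmersion.isPullback _ _ _ _ (S.shrink V' hle).D.i (S.gZ V' hle).hom
      (Idx.res X V' S.V hle).hom S.D.i (S.gZ V' hle).isOpenImmersion
      (Idx.res X V' S.V hle).isOpenImmersion (S.gZ_i V' hle) ?_).flip
    refine Opens.ext (Set.ext fun z => ⟨fun hz => ?_, ?_⟩)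
    · obtain ⟨hzV, x, hx, hxz⟩ := S.P.κ_mem z
      have hz' : S.P.κ z ∈ V'.1 := by
        obtain ⟨w, hw⟩ := hz
        have e : S.V.1.ι ((Idx.res X V' S.V hle).hom w) = w.1 := Scheme.homOfLE_apply hle w
        exact Set.mem_of_eq_of_mem ((congrArg S.V.1.ι hw).symm.trans e) w.2
      obtain ⟨w, hw⟩ := (S.shrink V' hle).P.range_eq.ge
        ⟨hz', x, (S.mem_pts_shrink V' hle).2 hx, hxz⟩
      refine ⟨w, S.P.κ.isEmbedding.injective ?_⟩
      rw [← S.gZ_κ V' hle] at hw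
      exact hw
    · rintro ⟨w, rfl⟩
      exact ⟨(S.shrink V' hle).D.i w, by
        rw [← Scheme.Hom.comp_apply, ← S.gZ_i]; rfl⟩
  exact (ConcreteCategory.congr_hom (T.push_pull S.D.i (S.shrink V' hle).D.i
    (Idx.res X V' S.V hle) (S.gZ V' hle) hsq M i n i' n'
    (by rw [show relCodim S.D.Z.scheme _ = _ from S.relCodim_eq]; exact hi)
    (by rw [show relCodim S.D.Z.scheme _ = _ from S.relCodim_eq]; exact hn)
    (by rw [show relCodim (S.shrink V' hle).D.Z.scheme _ = _ from (S.shrink V' hle).relCodim_eq]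
        exact hi)
    (by rw [show relCodim (S.shrink V' hle).D.Z.scheme _ = _ from (S.shrink V' hle).relCodim_eq]
        exact hn)) z).symm

end Shrink

end Slice

/-- slices exist -/
lemma exists_slice {X : Obj V} {j : ℕ} (U : Idx X (ContainsFj X j))
    (W : Idx X (ContainsFj X (j + 1))) (hle : U.1 ≤ W.1)
    (hne : ∃ x, WeilCoh.codim X.scheme x = j + 1 ∧ x ∉ U.1) :
    ∃ S : Slice X j, S.U = U ∧ S.V.1 ≤ W.1 := by
  classical
  obtain ⟨G, hGf, hGU, hG⟩ := exists_finite_generic (X := X) U.1.isOpen.isClosed_compl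
  let p : Set X.scheme := {x | WeilCoh.codim X.scheme x = j + 1 ∧ x ∉ U.1}
  have hp : p.Finite := finite_codim_not_mem U
  let bad : Set X.scheme := (⋃ g ∈ {g ∈ G | g ∉ p}, closure {g}) ∪
    ⋃ q ∈ {q ∈ p ×ˢ p | q.1 ≠ q.2}, closure {q.1} ∩ closure {q.2}
  have hbad : IsClosed bad :=
    ((hGf.subset fun g hg => hg.1).isClosed_biUnion fun _ _ => isClosed_closure).union
      (((hp.prod hp).subset fun q hq => hq.1).isClosed_biUnion
        fun _ _ => isClosed_closure.inter isClosed_closure)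
  have hbadU : bad ⊆ (U.1 : Set X.scheme)ᶜ := by
    rintro z (hz | hz) <;> simp only [Set.mem_iUnion, exists_prop] at hz
    · obtain ⟨g, ⟨hg, -⟩, hgz⟩ := hz
      exact fun hzU => hGU hg ((specializes_iff_mem_closure.2 hgz).mem_open U.1.isOpen hzU)
    · obtain ⟨q, ⟨⟨hq, -⟩, -⟩, hqz, -⟩ := hz
      exact fun hzU => hq.2 ((specializes_iff_mem_closure.2 hqz).mem_open U.1.isOpen hzU)
  have hcodim : ∀ y ∈ bad, j + 1 < WeilCoh.codim X.scheme y := by
    rintro y (hy | hy) <;> simp only [Set.mem_iUnion, exists_prop] at hy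
    · obtain ⟨g, ⟨hg, hgp⟩, hgy⟩ := hy
      have h1 : j < WeilCoh.codim X.scheme g := not_le.1 fun h => hGU hg (U.2.1 g h)
      have h2 : WeilCoh.codim X.scheme g ≠ j + 1 := fun h => hgp ⟨h, hGU hg⟩
      have := codim_mono (finDim X) (specializes_iff_mem_closure.2 hgy)
      omega
    · obtain ⟨q, ⟨⟨hq1, hq2⟩, hne⟩, hy1, hy2⟩ := hy
      by_contra! h
      exact hne ((eq_of_codim_le (finDim X) (specializes_iff_mem_closure.2 hy1) (by rw [hq1.1]; omega)).trans
        (eq_of_codim_le (finDim X) (specializes_iff_mem_closure.2 hy2) (by rw [hq2.1]; omega)).symm)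
  let O : X.scheme.Opens := W.1 ⊓ ⟨badᶜ, hbad.isOpen_compl⟩
  have hO : ContainsFj X (j + 1) O :=
    fun y hy => ⟨W.2.1 y hy, fun hyb => absurd (hcodim y hyb) (by omega)⟩
  refine ⟨⟨U, mkFjIdx X O hO, fun z hz => ⟨hle hz, fun hzb => hbadU hzb hz⟩, ?_, ?_, hne⟩, rfl,
    inf_le_left⟩
  · intro z hz hzU
    obtain ⟨g, hg, hgz⟩ := hG z hzU
    by_cases hgp : g ∈ p
    · exact ⟨g, hgp.1, hgp.2, hgz⟩
    · exact absurd (show z ∈ bad from Or.inl (Set.mem_biUnion (x := g) ⟨hg, hgp⟩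
        (specializes_iff_mem_closure.1 hgz))) hz.2
  · intro z hz _ x y hx hxU hy hyU hxz hyz
    by_contra hne
    exact hz.2 (show z ∈ bad from Or.inr (Set.mem_biUnion (x := (x, y)) ⟨⟨⟨hx, hxU⟩, hy, hyU⟩, hne⟩
      ⟨specializes_iff_mem_closure.1 hxz, specializes_iff_mem_closure.1 hyz⟩))

end GrothLib.BMGysin
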