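/-
The Gysin sequences in the colimit: `H(F_(j+1)X) → H(F_jX)` and the groups of points.
-/
import Groth.Agent.Lib.BMGysin.Slice

set_option autoImplicit false
universe u

open AlgebraicGeometry CategoryTheory CategoryTheory.Limits Opposite TopologicalSpace BMCoh
open GrothLib

namespace GrothLib.BMGysin

variable {V : ObjectProperty Scheme.{u}} [IsConstructible V]

lemma genericPoint_mem {X : Obj V} (x : X.scheme) (W : ptIdx X x) (p : (X.ptSub x).scheme)
    (hp : X.ptSubι x p = x) : p ∈ W.1 := by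
  obtain ⟨w, hw⟩ := W.2.1
  have hx : x ⤳ X.ptSubι x w := specializes_iff_mem_closure.2 ((range_ptSubι X x).le ⟨w, rfl⟩)
  have hx' : X.ptSubι x p ⤳ X.ptSubι x w := by rw [hp]; exact hx
  exact ((X.ptSubι x).isEmbedding.isInducing.specializes_iff.1 hx').mem_open W.1.isOpen hw

lemma exists_genericPoint {X : Obj V} (x : X.scheme) :
    ∃ p : (X.ptSub x).scheme, X.ptSubι x p = x :=
  (range_ptSubι X x).ge (subset_closure rfl)

/-- a representable condition on the pieces shrinks a slice -/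
lemma Slice.exists_shrink {X : Obj V} {j : ℕ} (S : Slice X j) (W' : ∀ x : S.P.s, ptIdx X x.1) :
    ∃ (V' : Idx X (ContainsFj X (j + 1))) (hle : V'.1 ≤ S.V.1),
      ∀ x : (S.shrink V' hle).P.s,
        ((S.shrink V' hle).P.W x).1 ≤ (W' (S.pt V' hle x)).1 := by
  let bad : Set X.scheme := ⋃ x : S.P.s, (X.ptSubι x.1).base '' ((W' x).1 : Set _)ᶜ
  have hbad : IsClosed bad := isClosed_iUnion_of_finite fun x =>
    (X.ptSubι x.1).isClosedEmbedding.isClosedMap _ (W' x).1.isOpen.isClosed_compl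
  let O : X.scheme.Opens := S.V.1 ⊓ ⟨badᶜ, hbad.isOpen_compl⟩
  have hO : ContainsFj X (j + 1) O := by
    refine fun y hy => ⟨S.V.2.1 y hy, fun hyb => ?_⟩
    obtain ⟨x, hx⟩ := Set.mem_iUnion.1 hyb
    obtain ⟨w, hw, rfl⟩ := hx
    have hxy : x.1 ⤳ X.ptSubι x.1 w :=
      specializes_iff_mem_closure.2 ((range_ptSubι X x.1).le ⟨w, rfl⟩)
    have hxc : WeilCoh.codim X.scheme x.1 = j + 1 := (S.mem_pts.1 x.2).1
    have hxe : x.1 = X.ptSubι x.1 w := eq_of_codim_le (finDim X) hxy (by rw [hxc]; exact hy)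
    exact hw (genericPoint_mem x.1 (W' x) w hxe.symm)
  refine ⟨mkFjIdx X O hO, inf_le_left, fun x w hw => ?_⟩
  by_contra hn
  exact hw.2 (Set.mem_iUnion.2 ⟨S.pt _ _ x, w, hn, rfl⟩)

variable {R : Type u} [CommRing R] {A : Coefs R} (T : PreTheory V R A) (M : A.Cat)

/-- the class in `H(x)` of the component of a class on a slice -/
noncomputable def Slice.comp {X : Obj V} {j : ℕ} (S : Slice X j) {i n : ℤ} (x : S.P.s)
    (z : T.gp S.P.Z M i n) : T.ptGp X x.1 M i n :=
  ((T.ptι X x.1 i n (S.P.W x)).app M).hom ((T.pull (S.P.g x) M i n).hom z)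

lemma Slice.comp_shrink {X : Obj V} {j : ℕ} (S : Slice X j) (V' : Idx X (ContainsFj X (j + 1)))
    (hle : V'.1 ≤ S.V.1) {i n : ℤ} (x : (S.shrink V' hle).P.s) (z : T.gp S.P.Z M i n) :
    (S.shrink V' hle).comp T M x ((T.pull (S.gZ V' hle) M i n).hom z) =
      S.comp T M (S.pt V' hle x) z := by
  rw [Slice.comp, pull_comp, S.g_gZ, ← pull_comp]
  exact ι_pull (T := T) M i n (S.W_shrink_le V' hle x) _

/-- if all components of a class vanish in the groups of the points, it vanishes after shrinking -/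
lemma Slice.exists_pull_gZ_eq_zero {X : Obj V} {j : ℕ} (S : Slice X j) {i n : ℤ}
    (z : T.gp S.P.Z M i n) (h : ∀ x, S.comp T M x z = 0) :
    ∃ (V' : Idx X (ContainsFj X (j + 1))) (hle : V'.1 ≤ S.V.1),
      (T.pull (S.gZ V' hle) M i n).hom z = 0 := by
  have h' : ∀ x : S.P.s, ∃ (W' : ptIdx X x.1) (hW : W'.1 ≤ (S.P.W x).1),
      (T.pull (Idx.res (X.ptSub x.1) W' (S.P.W x) hW) M i n).hom
        ((T.pull (S.P.g x) M i n).hom z) = 0 :=
    fun x => exists_le_of_ι_eq_zero (T := T) M i n (goodP_pt X x.1) (h x)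
  choose W' hW hz using h'
  obtain ⟨V', hle, hV⟩ := S.exists_shrink W'
  refine ⟨V', hle, (S.shrink V' hle).P.eq_zero_of_forall_pull T M i n _ fun x => ?_⟩
  rw [pull_comp, S.g_gZ]
  have e : Idx.res (X.ptSub x.1) ((S.shrink V' hle).P.W x) (S.P.W (S.pt V' hle x))
      (S.W_shrink_le V' hle x) =
      Idx.res (X.ptSub x.1) ((S.shrink V' hle).P.W x) (W' (S.pt V' hle x)) (hV x) ≫
        Idx.res (X.ptSub x.1) (W' (S.pt V' hle x)) (S.P.W (S.pt V' hle x)) (hW _) :=
    hom_ext ((X.ptSub x.1).scheme.homOfLE_homOfLE (hV x) (hW (S.pt V' hle x))).symm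
  rw [e, Category.assoc, ← pull_comp, ← pull_comp]
  exact (congrArg _ (hz (S.pt V' hle x))).trans (map_zero _)

/-- a class on `U` whose residue classes vanish extends to `F_(j+1)` -/
lemma Slice.mem_range_fjRes {X : Obj V} {j : ℕ} (S : Slice X j) {i n i' n' : ℤ}
    (hi : i' = i + 1 - 2 * ((j : ℤ) + 1)) (hn : n' = n - ((j : ℤ) + 1))
    (b : T.gp (X.res S.U.1) M i n) (h : ∀ x, S.comp T M x ((S.res T M hi hn).hom b) = 0) :
    ∃ a, ((T.fjRes X (Nat.le_succ j) i n).app M).hom a =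
      ((T.fjι X j i n S.U).app M).hom b := by
  obtain ⟨V', hle, hz⟩ := S.exists_pull_gZ_eq_zero T M _ h
  rw [← S.res_shrink T M V' hle hi hn] at hz
  obtain ⟨c, hc⟩ := ((S.shrink V' hle).exact_pull_res T M hi hn _).1 hz
  refine ⟨((T.fjι X (j + 1) i n V').app M).hom c, ?_⟩
  refine (ocolimMap_ι (T := T) M i n _ V' c).trans ?_
  rw [← ι_pull (T := T) M i n (U' := (S.shrink V' hle).U) (U := S.U) (S.shrink_U_le V' hle) b,
    ← hc]
  exact (ι_pull (T := T) M i n (U' := (S.shrink V' hle).U)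
    (U := ⟨V'.1, containsFj_mono X (Nat.le_succ j) _ V'.2.1, V'.2.2⟩) inf_le_right c).symm

/-- a class on the closed part whose components vanish pushes forward to zero in `F_(j+1)` -/
lemma Slice.ι_push_eq_zero {X : Obj V} {j : ℕ} (S : Slice X j) {i n i' n' : ℤ}
    (hi : i' = i + 2 * ((j : ℤ) + 1)) (hn : n' = n + ((j : ℤ) + 1))
    (z : T.gp S.P.Z M i n) (h : ∀ x, S.comp T M x z = 0) :
    ((T.fjι X (j + 1) i' n' S.V).app M).hom ((S.push T M hi hn).hom z) = 0 := by
  obtain ⟨V', hle, hz⟩ := S.exists_pull_gZ_eq_zero T M _ h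
  rw [← ι_pull (T := T) M i' n' (U' := V') (U := S.V) hle, ← S.push_shrink T M V' hle hi hn, hz,
    map_zero]
  exact map_zero _

/-- a class of `F_(j+1)` vanishing on `F_j` is a push-forward -/
lemma eq_zero_or_exists_push {X : Obj V} {j : ℕ} {i n i' n' : ℤ}
    (hi : i' = i + 2 * ((j : ℤ) + 1)) (hn : n' = n + ((j : ℤ) + 1))
    (a : T.fjGp X (j + 1) M i' n')
    (ha : ((T.fjRes X (Nat.le_succ j) i' n').app M).hom a = 0) :
    a = 0 ∨ ∃ (S : Slice X j) (z : T.gp S.P.Z M i n),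
      ((T.fjι X (j + 1) i' n' S.V).app M).hom ((S.push T M hi hn).hom z) = a := by
  obtain ⟨W, c, rfl⟩ := exists_rep (T := T) M i' n' (goodP_containsFj X (j + 1)) a
  rw [ocolimMap_ι] at ha
  obtain ⟨U, hU, hc⟩ := exists_le_of_ι_eq_zero (T := T) M i' n' (goodP_containsFj X j) ha
  by_cases hne : ∃ x, WeilCoh.codim X.scheme x = j + 1 ∧ x ∉ U.1
  · obtain ⟨S, hS, hSW⟩ := exists_slice U W hU hne
    subst hS
    right
    have hc' : (T.pull (Idx.res X S.U S.V S.le) M i' n').hom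
        ((T.pull (Idx.res X S.V W hSW) M i' n').hom c) = 0 := by
      rw [pull_comp, pull_congr T (g := Idx.res X S.U
        ⟨W.1, containsFj_mono X (Nat.le_succ j) _ W.2.1, W.2.2⟩ hU)
        (X.scheme.homOfLE_homOfLE S.le hSW)]
      exact hc
    obtain ⟨z, hz⟩ := (S.exact_push_pull T M hi hn _).1 hc'
    exact ⟨S, z, by rw [hz]; exact ι_pull (T := T) M i' n' hSW c⟩
  · left
    push Not at hne
    have hU' : ContainsFj X (j + 1) U.1 := fun y hy => by
      rcases Nat.lt_or_ge j (WeilCoh.codim X.scheme y) with h | h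
      · exact hne y (by omega)
      · exact U.2.1 y h
    refine (ι_pull (T := T) M i' n' (U' := ⟨U.1, hU', U.2.2⟩) (U := W) hU c).symm.trans ?_
    exact (congrArg _ hc).trans (map_zero _)

/-- a class of `F_j` on a slice, or one that extends -/
lemma mem_range_or_exists_slice {X : Obj V} {j : ℕ} {i n : ℤ} (a : T.fjGp X j M i n) :
    (∃ c, ((T.fjRes X (Nat.le_succ j) i n).app M).hom c = a) ∨
      ∃ (S : Slice X j) (b : T.gp (X.res S.U.1) M i n),
        ((T.fjι X j i n S.U).app M).hom b = a := by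
  obtain ⟨U, b, rfl⟩ := exists_rep (T := T) M i n (goodP_containsFj X j) a
  by_cases hne : ∃ x, WeilCoh.codim X.scheme x = j + 1 ∧ x ∉ U.1
  · obtain ⟨S, hS, -⟩ := exists_slice U (mkFjIdx X ⊤ fun _ _ => trivial) le_top hne
    subst hS
    exact Or.inr ⟨S, b, rfl⟩
  · left
    push Not at hne
    have hU' : ContainsFj X (j + 1) U.1 := fun y hy => by
      rcases Nat.lt_or_ge j (WeilCoh.codim X.scheme y) with h | h
      · exact hne y (by omega)
      · exact U.2.1 y h
    exact ⟨((T.fjι X (j + 1) i n ⟨U.1, hU', U.2.2⟩).app M).hom b,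
      ocolimMap_ι (T := T) M i n _ ⟨U.1, hU', U.2.2⟩ b⟩

end GrothLib.BMGysin
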