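/-
Computation of residue and push-forward data on slices.
-/
import Groth.Agent.Lib.BMGysin.Exact

set_option autoImplicit false
universe u

open AlgebraicGeometry CategoryTheory CategoryTheory.Limits Opposite TopologicalSpace BMCoh
open GrothLib

namespace GrothLib.BMGysin

variable {V : ObjectProperty Scheme.{u}} [IsConstructible V]
variable {R : Type u} [CommRing R] {A : Coefs R} {T : PreTheory V R A}
variable {X : Obj V} {j : ℕ}

lemma resData_cpt_slice (Q : T.ResData X j) (S : Slice X j) (M : A.Cat) {i n i' n' : ℤ}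
    (hi : i' = i + 1 - 2 * ((j : ℤ) + 1)) (hn : n' = n - ((j : ℤ) + 1))
    (b : T.gp (X.res S.U.1) M i n) (x : X.cdPt (j + 1)) (hx : x.1 ∈ S.P.s) :
    (Q.cpt x M i n i' n' hi hn).hom (((T.fjι X j i n S.U).app M).hom b) =
      S.comp T M ⟨x.1, hx⟩ ((S.res T M hi hn).hom b) := by
  have h1 : (S.P.g ⟨x.1, hx⟩).hom ≫ S.D.i ≫ (X.resι S.V.1 S.V.2.2).hom =
      (S.P.W ⟨x.1, hx⟩).1.ι ≫ X.ptSubι x.1 := S.P.g_fac ⟨x.1, hx⟩
  have h2 : (𝟙 (X.res S.U.1) : X.res S.U.1 ⟶ S.D.U).hom ≫ S.D.j.hom ≫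
      (X.resι S.V.1 S.V.2.2).hom = S.U.1.ι :=
    (Category.id_comp _).trans (Scheme.homOfLE_ι X.scheme S.le)
  have h := ConcreteCategory.congr_hom (Q.cpt_spec x M i n i' n' hi hn
    (X.resι S.V.1 S.V.2.2) S.D (S.P.W ⟨x.1, hx⟩) (S.P.g ⟨x.1, hx⟩) h1 S.U (𝟙 _) h2
    (by rw [S.codim_D]; exact hi) (by rw [S.codim_D]; exact hn)) b
  have hb : (T.pull (𝟙 (X.res S.U.1)) M i n).hom b = b := pull_id T _ M i n b
  exact (congrArg (fun t => (Q.cpt x M i n i' n' hi hn).hom (((T.fjι X j i n S.U).app M).hom t))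
    hb).symm.trans h

/-- residues at `x` of classes defined near `x` vanish -/
lemma resData_cpt_of_mem (Q : T.ResData X j) (M : A.Cat) {i n i' n' : ℤ}
    (hi : i' = i + 1 - 2 * ((j : ℤ) + 1)) (hn : n' = n - ((j : ℤ) + 1))
    (U : Idx X (ContainsFj X j)) (b : T.gp (X.res U.1) M i n) (x : X.cdPt (j + 1))
    (hxU : x.1 ∈ U.1) :
    (Q.cpt x M i n i' n' hi hn).hom (((T.fjι X j i n U).app M).hom b) = 0 := by
  let O : Idx X (ContainsFj X j) := mkFjIdx X
    (U.1 ⊓ ⟨(closure {x.1})ᶜ, isClosed_closure.isOpen_compl⟩) fun y hy => ⟨U.2.1 y hy, fun hyx => by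
      have h1 := codim_mono (finDim X) (specializes_iff_mem_closure.2 hyx)
      have h2 := x.2
      omega⟩
  have hle : O.1 ≤ U.1 := inf_le_left
  let w : ptIdx X x.1 := mkPtIdx X (X.ptSubι x.1 ⁻¹ᵁ U.1) (by
    obtain ⟨p, hp⟩ := exists_genericPoint x.1
    exact ⟨p, show X.ptSubι x.1 p ∈ U.1 by rw [hp]; exact hxU⟩)
  let D : Decomp (X.res U.1) :=
    { Z := (X.ptSub x.1).res w.1
      U := X.res O.1
      i := X.ptSubι x.1 ∣_ U.1
      closedImm := IsZariskiLocalAtTarget.restrict (P := @IsClosedImmersion) inferInstance _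
      j := Idx.res X O U hle
      range_eq := by
        show Set.range (X.scheme.homOfLE hle) = (Set.range (X.ptSubι x.1 ∣_ U.1))ᶜ
        ext z
        constructor
        · rintro ⟨v, rfl⟩ ⟨q, hq⟩
          have e1 : X.ptSubι x.1 q.1 = v.1 := by
            have := congrArg Subtype.val hq
            rw [morphismRestrict_base] at this
            exact this.trans (Scheme.homOfLE_apply hle v)
          exact v.2.2 ((range_ptSubι X x.1).le ⟨q.1, e1⟩)
        · intro hn'
          have hz : z.1 ∉ closure ({x.1} : Set X.scheme) := fun hz => by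
            obtain ⟨q, hq⟩ := (range_ptSubι X x.1).ge hz
            refine hn' ⟨⟨q, show X.ptSubι x.1 q ∈ U.1 by rw [hq]; exact z.2⟩, Subtype.ext ?_⟩
            rw [morphismRestrict_base]
            exact hq
          exact ⟨⟨z.1, z.2, hz⟩, Subtype.ext (Scheme.homOfLE_apply hle _)⟩ }
  have hcodim : D.codim = (j : ℤ) + 1 := by
    have h1 : WeilCoh.dim D.Z.scheme = WeilCoh.pdim X.scheme x.1 := dim_open_ptSub X x.1 w.1 w.2.1
    have h2 : WeilCoh.dim (X.res U.1).scheme = WeilCoh.dim X.scheme := U.2.2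
    have h3 := pdim_add_codim (finDim X) x.1
    have h4 := x.2
    simp only [Decomp.codim, relCodim, h1, h2]
    omega
  have hres : (T.res D M i n i' n' (by rw [hcodim]; exact hi) (by rw [hcodim]; exact hn)).hom
      ((T.pull (Idx.res X O U hle) M i n).hom b) = 0 :=
    (T.exact_pull_res D M i n i' n' _ _).apply_apply_eq_zero b
  rw [← ι_pull (T := T) M i n (U' := O) (U := U) hle b]
  have hsp := ConcreteCategory.congr_hom (Q.cpt_spec x M i n i' n' hi hn
    (X.resι U.1 U.2.2) D w (𝟙 _) ((Category.id_comp _).trans (morphismRestrict_ι _ _))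
    O (𝟙 _) ((Category.id_comp _).trans (Scheme.homOfLE_ι X.scheme hle))
    (by rw [hcodim]; exact hi) (by rw [hcodim]; exact hn))
    ((T.pull (Idx.res X O U hle) M i n).hom b)
  have hb : (T.pull (𝟙 (X.res O.1)) M i n).hom ((T.pull (Idx.res X O U hle) M i n).hom b)
      = (T.pull (Idx.res X O U hle) M i n).hom b := pull_id T _ M i n _
  refine ((congrArg (fun t => (Q.cpt x M i n i' n' hi hn).hom
    (((T.fjι X j i n O).app M).hom t)) hb).symm.trans hsp).trans ?_
  exact (congrArg (fun t => ((T.ptι X x.1 i' n' w).app M).hom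
    ((T.pull (𝟙 D.Z) M i' n').hom t)) hres).trans
    ((congrArg _ (map_zero _)).trans (map_zero _))

/-- residues of classes extending to `F_(j+1)` vanish -/
lemma resData_cpt_fjRes (Q : T.ResData X j) (M : A.Cat) {i n i' n' : ℤ}
    (hi : i' = i + 1 - 2 * ((j : ℤ) + 1)) (hn : n' = n - ((j : ℤ) + 1))
    (a : T.fjGp X (j + 1) M i n) (x : X.cdPt (j + 1)) :
    (Q.cpt x M i n i' n' hi hn).hom (((T.fjRes X (Nat.le_succ j) i n).app M).hom a) = 0 := by
  obtain ⟨W, c, rfl⟩ := exists_rep (T := T) M i n (goodP_containsFj X (j + 1)) a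
  rw [ocolimMap_ι]
  exact resData_cpt_of_mem Q M hi hn
    ⟨W.1, containsFj_mono X (Nat.le_succ j) _ W.2.1, W.2.2⟩ c x (W.2.1 x.1 x.2.le)

lemma pushData_cpt_slice (P : T.PushData X (j + 1)) (S : Slice X j) (M : A.Cat) {i n i' n' : ℤ}
    (hi : i' = i + 2 * ((j + 1 : ℕ) : ℤ)) (hn : n' = n + ((j + 1 : ℕ) : ℤ))
    (x : S.P.s) (w : T.gp ((X.ptSub x.1).res (S.P.W x).1) M i n) :
    (P.cpt ⟨x.1, (S.mem_pts.1 x.2).1⟩ M i n i' n' hi hn).hom
        (((T.ptι X x.1 i n (S.P.W x)).app M).hom w) =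
      ((T.fjι X (j + 1) i' n' S.V).app M).hom
        ((S.push T M (by push_cast at hi; exact hi) (by push_cast at hn; exact hn)).hom
          ((pushC T (S.P.g x) M i n).hom w)) := by
  have hf : ((S.P.g x).hom ≫ S.D.i) ≫ S.V.1.ι = (S.P.W x).1.ι ≫ X.ptSubι x.1 :=
    (Category.assoc _ _ _).trans (S.P.g_fac x)
  have hc : relCodim ((X.ptSub x.1).res (S.P.W x).1).scheme (X.res S.V.1).scheme = (j : ℤ) + 1 := by
    rw [← S.relCodim_eq]
    simp only [relCodim, (S.P.g x).dim_eq]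
  have : IsClosedImmersion (S.P.g x).hom := inferInstance
  have hi2 : i' = i + 2 * relCodim ((X.ptSub x.1).res (S.P.W x).1).scheme (X.res S.V.1).scheme := by
    rw [hc]; push_cast at hi; exact hi
  have hn2 : n' = n + relCodim ((X.ptSub x.1).res (S.P.W x).1).scheme (X.res S.V.1).scheme := by
    rw [hc]; push_cast at hn; exact hn
  have : IsClosedImmersion S.D.i := S.D.closedImm
  have : IsClosedImmersion ((S.P.g x).hom ≫ S.D.i) :=
    @IsClosedImmersion.comp _ _ _ _ _ inferInstance S.D.closedImm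
  have hpg : IsProper (S.P.g x).hom := inferInstance
  have : @IsProper _ S.D.Z.scheme (S.P.g x).hom := hpg
  have h := ConcreteCategory.congr_hom (P.cpt_spec ⟨x.1, (S.mem_pts.1 x.2).1⟩ M i n i' n' hi hn
    S.V (S.P.W x) ((S.P.g x).hom ≫ S.D.i) hf hi2 hn2) w
  refine h.trans ?_
  refine congrArg ((T.fjι X (j + 1) i' n' S.V).app M).hom ?_
  exact (ConcreteCategory.congr_hom (T.push_comp (Y := S.D.Z) (S.P.g x).hom S.D.i
    M i n i n i' n' _ _ _ _ hi2 hn2) w).symm

end GrothLib.BMGysin
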