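/-
Push-forward between the groups of points along a proper morphism.
-/
import Groth.Prelude.Def_BMCoh4
import Groth.Agent.Lib.BMGysin.Exact
import Mathlib.AlgebraicGeometry.Morphisms.Proper

set_option autoImplicit false
universe u

open AlgebraicGeometry CategoryTheory CategoryTheory.Limits Opposite TopologicalSpace BMCoh
open GrothLib

namespace GrothLib.BMGysin

lemma pdim_map_le_of_isClosedMap {S T : Scheme.{u}} (f : S ⟶ T) (hf : IsClosedMap f.base)
    (hS : topologicalKrullDim S < ⊤) (hT : topologicalKrullDim T < ⊤) (s : S) :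
    WeilCoh.pdim T (f s) ≤ WeilCoh.pdim S s := by
  suffices ∀ (N : ℕ) (s : S), N ≤ WeilCoh.pdim T (f s) → N ≤ WeilCoh.pdim S s from
    this _ s le_rfl
  intro N
  induction N with
  | zero => intros; exact Nat.zero_le _
  | succ N ih =>
    intro s hN
    obtain ⟨y, hy, hyd⟩ := exists_hgt_eq (f s) (n := N)
      (by rw [← coe_pdim hT]; exact_mod_cast (Nat.le_succ N).trans hN) (hgt_lt_top hT _)
    have hyd' : WeilCoh.pdim T y = N := by rw [pdim_eq, hyd]; rfl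
    have hmem : y ∈ f.base '' closure {s} :=
      (hf _ isClosed_closure).closure_subset_iff.2
        (Set.singleton_subset_iff.2 ⟨s, subset_closure (Set.mem_singleton s), rfl⟩)
        (specializes_iff_mem_closure.1 hy)
    obtain ⟨z, hz, rfl⟩ := hmem
    have h1 := ih z hyd'.ge
    have h2 := pdim_lt hS (specializes_iff_mem_closure.2 hz) (fun e => by subst e; omega)
    omega

variable {V : ObjectProperty Scheme.{u}} [IsConstructible V] {Y X : Obj V}
  (φ : Y.scheme ⟶ X.scheme) (y : Y.scheme) (x : X.scheme)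

lemma exists_ptMap (h : φ y = x) :
    ∃ ψ : (Y.ptSub y).scheme ⟶ (X.ptSub x).scheme, ψ ≫ X.ptSubι x = Y.ptSubι y ≫ φ := by
  refine RedSub.exists_lift _ _ ?_
  rintro _ ⟨q, rfl⟩
  rw [range_ptSubι]
  have hq : y ⤳ Y.ptSubι y q :=
    specializes_iff_mem_closure.2 ((range_ptSubι Y y).le (Set.mem_range_self q))
  have := hq.map φ.continuous
  rw [show φ.base y = x from h] at this
  exact specializes_iff_mem_closure.1 this

lemma isProper_ptMap [IsProper φ] (ψ : (Y.ptSub y).scheme ⟶ (X.ptSub x).scheme)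
    (hψ : ψ ≫ X.ptSubι x = Y.ptSubι y ≫ φ) : IsProper ψ := by
  have : IsProper (ψ ≫ X.ptSubι x) := by rw [hψ]; infer_instance
  exact IsProper.of_comp ψ (X.ptSubι x)

/-- arbitrarily small proper restrictions of the map between reduced closures -/
lemma exists_restriction [IsProper φ] (h : φ y = x)
    (hd : relCodim (Y.ptSub y).scheme (X.ptSub x).scheme = 0)
    (ψ : (Y.ptSub y).scheme ⟶ (X.ptSub x).scheme) (hψ : ψ ≫ X.ptSubι x = Y.ptSubι y ≫ φ)
    (W : ptIdx Y y) (W₁ : ptIdx X x) :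
    ∃ (W' : ptIdx X x) (W₀ : ptIdx Y y), W₀.1 = ψ ⁻¹ᵁ W'.1 ∧ W'.1 ≤ W₁.1 ∧ W₀.1 ≤ W.1 := by
  have := isProper_ptMap φ y x ψ hψ
  obtain ⟨p, hp⟩ := exists_genericPoint y
  obtain ⟨q, hq⟩ := exists_genericPoint x
  let C : Set (X.ptSub x).scheme := ψ.base '' ((W.1 : Set (Y.ptSub y).scheme)ᶜ)
  have hC : IsClosed C := ψ.isClosedMap _ W.1.isOpen.isClosed_compl
  have hqC : q ∉ C := by
    rintro ⟨z, hz, hzq⟩
    have h1 := pdim_map_le_of_isClosedMap φ φ.isClosedMap (finDim Y) (finDim X) (Y.ptSubι y z)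
    have e : φ (Y.ptSubι y z) = x := by
      rw [← Scheme.Hom.comp_apply, ← hψ, Scheme.Hom.comp_apply]
      exact (congrArg (X.ptSubι x) hzq).trans hq
    rw [e] at h1
    have hyz : y ⤳ Y.ptSubι y z :=
      specializes_iff_mem_closure.2 ((range_ptSubι Y y).le (Set.mem_range_self z))
    have hd' : WeilCoh.pdim Y.scheme y = WeilCoh.pdim X.scheme x := by
      rw [relCodim, dim_ptSub, dim_ptSub] at hd
      omega
    have hne := eq_of_pdim_le (finDim Y) hyz (hd'.trans_le h1)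
    exact hz (genericPoint_mem y W z hne.symm)
  let O : (X.ptSub x).scheme.Opens := W₁.1 ⊓ ⟨Cᶜ, hC.isOpen_compl⟩
  have hqO : q ∈ O := ⟨genericPoint_mem x W₁ q hq, hqC⟩
  have hpO : p ∈ ψ ⁻¹ᵁ O := by
    have e : ψ p = q := by
      refine (X.ptSubι x).isEmbedding.injective ?_
      show (X.ptSubι x) (ψ p) = X.ptSubι x q
      rw [← Scheme.Hom.comp_apply, hψ, Scheme.Hom.comp_apply, hq, hp, h]
    show ψ p ∈ O
    rw [e]; exact hqO
  refine ⟨mkPtIdx X O ⟨q, hqO⟩, mkPtIdx Y (ψ ⁻¹ᵁ O) ⟨p, hpO⟩, rfl, inf_le_left, fun z hz => ?_⟩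
  by_contra hn
  exact (show ψ z ∈ O from hz).2 ⟨z, hn, rfl⟩

variable {R : Type u} [CommRing R] {A : Coefs R} {T : PreTheory V R A}

/-- the value of a push-forward datum on a class of a small open -/
lemma ptPush_cpt_restrict [IsProper φ] (L : T.PtPush φ y x)
    (ψ : (Y.ptSub y).scheme ⟶ (X.ptSub x).scheme) (hψ : ψ ≫ X.ptSubι x = Y.ptSubι y ≫ φ)
    (W' : ptIdx X x) (W₀ : ptIdx Y y) (hW : W₀.1 = ψ ⁻¹ᵁ W'.1) :
    ∃ (f : ((Y.ptSub y).res W₀.1).scheme ⟶ ((X.ptSub x).res W'.1).scheme) (_ : IsProper f)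
      (hi : ∀ i : ℤ, i = i + 2 * relCodim ((Y.ptSub y).res W₀.1).scheme ((X.ptSub x).res W'.1).scheme)
      (hn : ∀ n : ℤ, n = n + relCodim ((Y.ptSub y).res W₀.1).scheme ((X.ptSub x).res W'.1).scheme),
      f ≫ W'.1.ι = W₀.1.ι ≫ ψ ∧
      ∀ (M : A.Cat) (i n : ℤ) (b : T.gp ((Y.ptSub y).res W₀.1) M i n),
        (L.cpt M i n).hom (((T.ptι Y y i n W₀).app M).hom b) =
          ((T.ptι X x i n W').app M).hom ((T.push f M i n i n (hi i) (hn n)).hom b) := by
  have := isProper_ptMap φ y x ψ hψ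
  obtain ⟨W₀, hW₀⟩ := W₀
  subst hW
  have hd : relCodim ((Y.ptSub y).res (ψ ⁻¹ᵁ W'.1)).scheme ((X.ptSub x).res W'.1).scheme = 0 := by
    have h1 : WeilCoh.dim ((Y.ptSub y).res (ψ ⁻¹ᵁ W'.1)).scheme = WeilCoh.dim (Y.ptSub y).scheme :=
      hW₀.2
    have h2 : WeilCoh.dim ((X.ptSub x).res W'.1).scheme = WeilCoh.dim (X.ptSub x).scheme := W'.2.2
    have h3 := L.codim_eq
    simp only [relCodim] at h3 ⊢
    rw [h1, h2]
    exact h3
  have hf : IsProper (ψ ∣_ W'.1) := IsZariskiLocalAtTarget.restrict (P := @IsProper) inferInstance _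
  have : @IsProper ((Y.ptSub y).res (ψ ⁻¹ᵁ W'.1)).scheme ((X.ptSub x).res W'.1).scheme
    (ψ ∣_ W'.1) := hf
  refine ⟨ψ ∣_ W'.1, this, fun i => by rw [hd]; ring, fun n => by rw [hd]; ring,
    morphismRestrict_ι _ _, fun M i n b => ?_⟩
  refine ConcreteCategory.congr_hom (L.cpt_spec M i n ⟨ψ ⁻¹ᵁ W'.1, hW₀⟩ W' (ψ ∣_ W'.1) ?_
    (by rw [hd]; ring) (by rw [hd]; ring)) b
  refine (Category.assoc _ _ _).symm.trans ?_
  refine (congrArg (· ≫ X.ptSubι x) (morphismRestrict_ι ψ W'.1)).trans ?_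
  exact (Category.assoc _ _ _).trans (congrArg (_ ≫ ·) hψ)

end GrothLib.BMGysin
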