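/-
Classes on slices as elements of the sums of the groups of points.
-/
import Groth.Agent.Lib.BMGysin.Data
import Mathlib.Algebra.DirectSum.Module

set_option autoImplicit false
universe u

open AlgebraicGeometry CategoryTheory CategoryTheory.Limits Opposite TopologicalSpace BMCoh
open GrothLib DirectSum

namespace GrothLib.BMGysin

variable {V : ObjectProperty Scheme.{u}} [IsConstructible V]
variable {R : Type u} [CommRing R] {A : Coefs R} {T : PreTheory V R A}
variable {X : Obj V} {j : ℕ}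

/-- the point of a slice as a point of codimension `j + 1` -/
def Slice.cd (S : Slice X j) (x : S.P.s) : X.cdPt (j + 1) := ⟨x.1, (S.mem_pts.1 x.2).1⟩

open Classical in
/-- the element of the sum over the points given by a class on a slice -/
noncomputable def Slice.total (S : Slice X j) (T : PreTheory V R A) (M : A.Cat) {i n : ℤ}
    (z : T.gp S.P.Z M i n) : T.ptSum X (j + 1) M i n :=
  ∑ x : S.P.s, DirectSum.lof R (X.cdPt (j + 1)) (fun y : X.cdPt (j + 1) => T.ptGp X y.1 M i n)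
    (S.cd x) (S.comp T M x z)

lemma Slice.total_apply (S : Slice X j) (M : A.Cat) {i n : ℤ} (z : T.gp S.P.Z M i n)
    (y : X.cdPt (j + 1)) (hy : y.1 ∈ S.P.s) : S.total T M z y = S.comp T M ⟨y.1, hy⟩ z := by
  classical
  rw [Slice.total, ← DirectSum.component.lof_self (R := R)
    (M := fun y : X.cdPt (j + 1) => T.ptGp X y.1 M i n) (i := y) (S.comp T M ⟨y.1, hy⟩ z)]
  show DirectSum.component R (X.cdPt (j + 1)) (fun y => T.ptGp X y.1 M i n) y (∑ _, _) = _
  rw [map_sum, Finset.sum_eq_single (⟨y.1, hy⟩ : S.P.s)]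
  · rfl
  · intro x _ hne
    rw [DirectSum.component.of]
    refine dif_neg fun (e : S.cd x = y) => hne (Subtype.ext ?_)
    exact congrArg (fun q : X.cdPt (j + 1) => q.1) e
  · simp

lemma Slice.total_apply_not_mem (S : Slice X j) (M : A.Cat) {i n : ℤ} (z : T.gp S.P.Z M i n)
    (y : X.cdPt (j + 1)) (hy : y.1 ∉ S.P.s) : S.total T M z y = 0 := by
  classical
  show DirectSum.component R (X.cdPt (j + 1)) (fun y => T.ptGp X y.1 M i n) y (∑ _, _) = _
  rw [map_sum]
  refine Finset.sum_eq_zero fun x _ => ?_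
  rw [DirectSum.component.of]
  refine dif_neg fun e => hy ?_
  rw [← e]
  exact x.2

lemma resData_tot_slice (Q : T.ResData X j) (S : Slice X j) (M : A.Cat) {i n i' n' : ℤ}
    (hi : i' = i + 1 - 2 * ((j : ℤ) + 1)) (hn : n' = n - ((j : ℤ) + 1))
    (b : T.gp (X.res S.U.1) M i n) :
    (Q.tot M i n i' n' hi hn).hom (((T.fjι X j i n S.U).app M).hom b) =
      S.total T M ((S.res T M hi hn).hom b) := by
  refine DFinsupp.ext fun y => ?_
  rw [PreTheory.ResData.tot_apply]
  by_cases hy : y.1 ∈ S.P.s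
  · rw [resData_cpt_slice Q S M hi hn b y hy, S.total_apply M _ y hy]
  · rw [S.total_apply_not_mem M _ y hy,
      resData_cpt_of_mem Q M hi hn S.U b y (not_not.1 fun h => hy (S.mem_pts.2 ⟨y.2, h⟩))]

lemma pushData_tot_total (P : T.PushData X (j + 1)) (S : Slice X j) (M : A.Cat) {i n i' n' : ℤ}
    (hi : i' = i + 2 * ((j + 1 : ℕ) : ℤ)) (hn : n' = n + ((j + 1 : ℕ) : ℤ))
    (hi' : i' = i + 2 * ((j : ℤ) + 1)) (hn' : n' = n + ((j : ℤ) + 1))
    (z : T.gp S.P.Z M i n) :
    (P.tot M i n i' n' hi hn).hom (S.total T M z) =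
      ((T.fjι X (j + 1) i' n' S.V).app M).hom ((S.push T M hi' hn').hom z) := by
  classical
  rw [Slice.total, map_sum]
  conv_rhs => rw [← S.P.sum_pushC_pull T M i n z, map_sum, map_sum]
  refine Finset.sum_congr rfl fun x _ => ?_
  rw [PreTheory.PushData.tot_lof]
  exact pushData_cpt_slice P S M hi hn x _

lemma resData_tot_fjRes (Q : T.ResData X j) (M : A.Cat) {i n i' n' : ℤ}
    (hi : i' = i + 1 - 2 * ((j : ℤ) + 1)) (hn : n' = n - ((j : ℤ) + 1))
    (a : T.fjGp X (j + 1) M i n) :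
    (Q.tot M i n i' n' hi hn).hom (((T.fjRes X (Nat.le_succ j) i n).app M).hom a) = 0 := by
  refine DFinsupp.ext fun y => ?_
  rw [PreTheory.ResData.tot_apply]
  exact resData_cpt_fjRes Q M hi hn a y

/-- shrinking does not change the total -/
lemma Slice.total_shrink (S : Slice X j) (V' : Idx X (ContainsFj X (j + 1)))
    (hle : V'.1 ≤ S.V.1) (M : A.Cat) {i n : ℤ} (z : T.gp S.P.Z M i n) :
    (S.shrink V' hle).total T M ((T.pull (S.gZ V' hle) M i n).hom z) = S.total T M z := by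
  refine DFinsupp.ext fun y => ?_
  by_cases hy : y.1 ∈ S.P.s
  · rw [Slice.total_apply _ M _ y hy,
      Slice.total_apply _ M _ y ((S.mem_pts_shrink V' hle).2 hy), Slice.comp_shrink]
    rfl
  · rw [Slice.total_apply_not_mem _ M _ y hy,
      Slice.total_apply_not_mem _ M _ y fun h => hy ((S.mem_pts_shrink V' hle).1 h)]

/-- every nonzero element of the sum over the points comes from a slice -/
lemma exists_total_eq (M : A.Cat) {i n : ℤ} (ξ : T.ptSum X (j + 1) M i n) (hξ : ξ ≠ 0) :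
    ∃ (S : Slice X j) (z : T.gp S.P.Z M i n), S.total T M z = ξ := by
  classical
  let supp : Finset (X.cdPt (j + 1)) := DFinsupp.support ξ
  let Z : Set X.scheme := ⋃ y ∈ supp, closure {y.1}
  have hZ : IsClosed Z := Set.Finite.isClosed_biUnion (Finset.finite_toSet _)
    fun _ _ => isClosed_closure
  let O : X.scheme.Opens := ⟨Zᶜ, hZ.isOpen_compl⟩
  have hO : ContainsFj X j O := fun y hy hyZ => by
    obtain ⟨x, -, hx⟩ := Set.mem_iUnion₂.1 hyZ
    have h1 := codim_mono (finDim X) (specializes_iff_mem_closure.2 hx)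
    have h2 := x.2
    omega
  obtain ⟨x₀, hx₀⟩ : supp.Nonempty := Finset.nonempty_iff_ne_empty.2 fun h =>
    hξ (DFinsupp.support_eq_empty.1 h)
  obtain ⟨S, hS, -⟩ := exists_slice (mkFjIdx X O hO) (mkFjIdx X ⊤ fun _ _ => trivial) le_top
    ⟨x₀.1, x₀.2, fun h => h (Set.mem_iUnion₂.2 ⟨x₀, hx₀, subset_closure rfl⟩)⟩
  have hsupp : ∀ y : X.cdPt (j + 1), ξ y ≠ 0 → y.1 ∈ S.P.s := fun y hy =>
    S.mem_pts.2 ⟨y.2, by
      rw [hS]
      exact fun h => h (Set.mem_iUnion₂.2 ⟨y, DFinsupp.mem_support_iff.2 hy, subset_closure rfl⟩)⟩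
  have hrep : ∀ x : S.P.s, ∃ (W' : ptIdx X x.1) (w : T.gp ((X.ptSub x.1).res W'.1) M i n),
      ((T.ptι X x.1 i n W').app M).hom w = ξ (S.cd x) :=
    fun x => exists_rep (T := T) M i n (goodP_pt X x.1) _
  choose W' w hw using hrep
  obtain ⟨V', hle, hV⟩ := S.exists_shrink W'
  obtain ⟨z, hz⟩ := (S.shrink V' hle).P.exists_pull_eq T M i n fun x =>
    (T.pull (Idx.res (X.ptSub x.1) _ (W' (S.pt V' hle x)) (hV x)) M i n).hom (w (S.pt V' hle x))
  refine ⟨S.shrink V' hle, z, DFinsupp.ext fun y => ?_⟩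
  by_cases hy : y.1 ∈ (S.shrink V' hle).P.s
  · rw [Slice.total_apply _ M _ y hy, Slice.comp, hz]
    exact (ι_pull (T := T) M i n (hV ⟨y.1, hy⟩) _).trans (hw (S.pt V' hle ⟨y.1, hy⟩))
  · rw [Slice.total_apply_not_mem _ M _ y hy]
    by_contra h
    exact hy ((S.mem_pts_shrink V' hle).2 (hsupp y (Ne.symm h)))

end GrothLib.BMGysin
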