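/-
Residues of push-forwards along finite morphisms.
-/
import Groth.Agent.Lib.BMGysin.Points
import Groth.Agent.Lib.BMGysin.Total
import Mathlib.AlgebraicGeometry.Morphisms.QuasiFinite
import Mathlib.AlgebraicGeometry.PullbackCarrier

set_option autoImplicit false
universe u

open AlgebraicGeometry CategoryTheory CategoryTheory.Limits Opposite TopologicalSpace BMCoh
open GrothLib DirectSum

namespace GrothLib.BMGysin

lemma pdim_map_of_finite {S T : Scheme.{u}} (f : S ⟶ T) [IsFinite f]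
    (hS : topologicalKrullDim S < ⊤) (hT : topologicalKrullDim T < ⊤) (s : S) :
    WeilCoh.pdim T (f s) = WeilCoh.pdim S s := by
  refine le_antisymm (pdim_map_le_of_isClosedMap f f.isClosedMap hS hT s) ?_
  have key : hgt s ≤ hgt (f s) := by
    letI := specializationOrder S
    letI := specializationOrder T
    refine Order.height_le_height_apply_of_strictMono f.base ?_ s
    intro a b hab
    have h : b ⤳ a := hab.le
    refine lt_of_le_of_ne (h.map f.continuous) fun e => hab.ne ?_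
    have hd := (f.isDiscrete_preimage_singleton (f b)).to_subtype
    have h2 : (⟨b, rfl⟩ : ↥(f.base ⁻¹' {f.base b})) ⤳ ⟨a, e⟩ :=
      (Topology.IsInducing.subtypeVal.specializes_iff).1 h
    exact congrArg Subtype.val h2.eq.symm
  rw [← coe_pdim hS, ← coe_pdim hT] at key
  exact_mod_cast key

variable {V : ObjectProperty Scheme.{u}} [IsConstructible V] {X Y : Obj V}

/-- a slice with a smaller `V` containing `U` -/
def Slice.restrict {j : ℕ} (S : Slice X j) (V' : Idx X (ContainsFj X (j + 1)))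
    (hle : V'.1 ≤ S.V.1) (hU : S.U.1 ≤ V'.1) : Slice X j :=
  ⟨S.U, V', hU, fun z hz => S.cover z (hle hz), fun z hz => S.uniq z (hle hz), S.exists_pt⟩

variable (φ : Y.scheme ⟶ X.scheme)

lemma exists_lift_preimage [IsProper φ] (U : X.scheme.Opens) (U' : Y.scheme.Opens)
    (h : U' = φ ⁻¹ᵁ U) :
    ∃ f : (Y.res U').scheme ⟶ (X.res U).scheme,
      IsProper f ∧ IsPullback U'.ι f φ U.ι := by
  subst h
  exact ⟨φ ∣_ U, IsZariskiLocalAtTarget.restrict (P := @IsProper) inferInstance _,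
    (isPullback_morphismRestrict φ U).flip⟩

variable {R : Type u} [CommRing R] {A : Coefs R} {T : PreTheory V R A}

lemma push_congr {A' B : Obj V} {f g : A'.scheme ⟶ B.scheme} [IsProper f] [IsProper g] (e : f = g)
    (M : A.Cat) (i n i' n' : ℤ) (hi : i' = i + 2 * relCodim A'.scheme B.scheme)
    (hn : n' = n + relCodim A'.scheme B.scheme) (a : T.gp A' M i n) :
    (T.push f M i n i' n' hi hn).hom a = (T.push g M i n i' n' hi hn).hom a := by
  subst e; rfl

lemma Slice.comp_sum {j : ℕ} (S : Slice X j) (M : A.Cat) {i n : ℤ} {ι' : Type u} (s : Finset ι')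
    (v : ι' → T.gp S.P.Z M i n) (x : S.P.s) :
    S.comp T M x (∑ k ∈ s, v k) = ∑ k ∈ s, S.comp T M x (v k) := by
  simp [Slice.comp, map_sum]

lemma Slice.total_sum {j : ℕ} (S : Slice X j) (M : A.Cat) {i n : ℤ} {ι' : Type u} (s : Finset ι')
    (v : ι' → T.gp S.P.Z M i n) :
    S.total T M (∑ k ∈ s, v k) = ∑ k ∈ s, S.total T M (v k) := by
  simp only [Slice.total]
  rw [eq_comm, Finset.sum_comm]
  refine Finset.sum_congr rfl fun x _ => ?_
  rw [S.comp_sum]
  exact (map_sum _ _ _).symm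

lemma Slice.total_pushC {j : ℕ} (S : Slice X j) (M : A.Cat) {i n : ℤ} (x : S.P.s)
    (v : T.gp ((X.ptSub x.1).res (S.P.W x).1) M i n) [DecidableEq (X.cdPt (j + 1))] :
    S.total T M ((pushC T (S.P.g x) M i n).hom v) =
      DirectSum.lof R (X.cdPt (j + 1)) (fun y : X.cdPt (j + 1) => T.ptGp X y.1 M i n) (S.cd x)
        (((T.ptι X x.1 i n (S.P.W x)).app M).hom v) := by
  classical
  rw [Slice.total, Finset.sum_eq_single x]
  · rw [Slice.comp, S.P.pull_g_pushC_g]
    congr!
  · intro y _ hy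
    rw [Slice.comp, S.P.pull_g_pushC_g_of_ne T M i n hy]
    exact (congrArg _ (map_zero _)).trans (map_zero _)
  · simp

/-- residues commute with finite push-forward between slices -/
theorem total_res_push [IsProper φ] {q : ℕ} (hd : WeilCoh.dim Y.scheme + q = WeilCoh.dim X.scheme)
    (hred : ∀ (Sb : BMCoh.Obj V) (D D'' : BMCoh.Decomp Sb) (gU : D''.U ⟶ D.U)
      (k : D''.Z.scheme ⟶ D.Z.scheme) [IsClosedImmersion k] [AlgebraicGeometry.Surjective k],
      gU ≫ D.j = D''.j → k ≫ D.i = D''.i →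
      ∀ (M : A.Cat) (i n i' n' : ℤ) (hi : i' = i + 1 - 2 * D.codim) (hn : n' = n - D.codim)
        (hi'' : i' = i + 1 - 2 * D''.codim) (hn'' : n' = n - D''.codim)
        (hk : i' = i' + 2 * BMCoh.relCodim D''.Z.scheme D.Z.scheme)
        (hk' : n' = n' + BMCoh.relCodim D''.Z.scheme D.Z.scheme),
      T.pull gU M i n ≫ T.res D'' M i n i' n' hi'' hn'' ≫ T.push k M i' n' i' n' hk hk' =
        T.res D M i n i' n' hi hn)
    (S : Slice X q) (S' : Slice Y 0) (hU : S'.U.1 = φ ⁻¹ᵁ S.U.1) (hV : S'.V.1 = φ ⁻¹ᵁ S.V.1)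
    (fU : (Y.res S'.U.1).scheme ⟶ (X.res S.U.1).scheme) [IsProper fU]
    (hfU : fU ≫ S.U.1.ι = S'.U.1.ι ≫ φ)
    (t : Y.cdPt 1 → X.cdPt (q + 1)) (F : ∀ y : Y.cdPt 1, T.PtPush φ y.1 (t y).1)
    (M : A.Cat) (i n i₁ n₁ i₂ n₂ : ℤ) (h1 : i₁ = i + 2 * (q : ℤ)) (h1' : n₁ = n + (q : ℤ))
    (h2 : i₂ = i₁ + 1 - 2 * ((q : ℤ) + 1)) (h2' : n₂ = n₁ - ((q : ℤ) + 1))
    (h4 : i₂ = i + 1 - 2 * (((0 : ℕ) : ℤ) + 1)) (h4' : n₂ = n - (((0 : ℕ) : ℤ) + 1))
    (hc : i₁ = i + 2 * relCodim (Y.res S'.U.1).scheme (X.res S.U.1).scheme)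
    (hc' : n₁ = n + relCodim (Y.res S'.U.1).scheme (X.res S.U.1).scheme)
    (c : T.gp (Y.res S'.U.1) M i n) :
    S.total T M ((S.res T M h2 h2').hom ((T.push fU M i n i₁ n₁ hc hc').hom c)) =
      (PreTheory.PtPush.famTot t F M i₂ n₂).hom (S'.total T M ((S'.res T M h4 h4').hom c)) := by
  classical
  obtain ⟨fV, hfVp, hsqV⟩ := exists_lift_preimage φ S.V.1 S'.V.1 hV
  let iS : S.P.Z.scheme ⟶ (X.res S.V.1).scheme := S.i
  have : IsClosedImmersion iS := inferInstanceAs (IsClosedImmersion S.i)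
  let iS' : S'.P.Z.scheme ⟶ (Y.res S'.V.1).scheme := S'.i
  let Z' : Obj V := ⟨pullback iS fV,
    IsConstructible.of_isClosedImmersion (pullback.snd iS fV) (h := inferInstance)
      (Y.res S'.V.1).mem⟩
  have hfac : fV ≫ S.V.1.ι = S'.V.1.ι ≫ φ := hsqV.w.symm
  have eU' : Y.scheme.homOfLE S'.le ≫ S'.V.1.ι = S'.U.1.ι := Scheme.homOfLE_ι Y.scheme S'.le
  have eU : X.scheme.homOfLE S.le ≫ S.V.1.ι = S.U.1.ι := Scheme.homOfLE_ι X.scheme S.le
  have hUsq : IsPullback (Y.scheme.homOfLE S'.le) fU fV (X.scheme.homOfLE S.le) := by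
    refine IsPullback.of_right ?_ ?_ hsqV
    · rw [eU', eU]
      refine (IsOpenImmersion.isPullback fU S'.U.1.ι S.U.1.ι φ hfU.symm ?_).flip
      rw [Scheme.Opens.opensRange_ι, Scheme.Opens.opensRange_ι, hU]
    · rw [← cancel_mono S.V.1.ι, Category.assoc, Category.assoc, hfac, eU, hfU, ← Category.assoc,
        eU']
  let D' : Decomp (Y.res S'.V.1) :=
    { Z := Z', U := Y.res S'.U.1, i := pullback.snd iS fV, closedImm := inferInstance
      j := Idx.res Y S'.U S'.V S'.le
      range_eq := by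
        show Set.range (Y.scheme.homOfLE S'.le) = (Set.range (pullback.snd iS fV))ᶜ
        have h' : Set.range (X.scheme.homOfLE S.le) = (Set.range iS)ᶜ := S.D.range_eq
        rw [Scheme.Pullback.range_snd]
        ext z
        constructor
        · rintro ⟨v, rfl⟩ hz
          have hm : fV (Y.scheme.homOfLE S'.le v) ∈ Set.range (X.scheme.homOfLE S.le) :=
            ⟨fU v, by rw [← Scheme.Hom.comp_apply, ← Scheme.Hom.comp_apply, hUsq.w]⟩
          exact h'.le hm hz
        · intro hz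
          obtain ⟨v, hv⟩ := h'.ge (show fV z ∈ (Set.range iS)ᶜ from hz)
          have hz' : φ z.1 ∈ S.U.1 := by
            have e1 : S.V.1.ι (fV z) = φ z.1 :=
              (Scheme.Hom.comp_apply fV S.V.1.ι z).symm.trans
                ((congrArg (fun f => f z) hfac).trans (Scheme.Hom.comp_apply _ _ z))
            have e2 : S.V.1.ι (X.scheme.homOfLE S.le v) = v.1 := Scheme.homOfLE_apply S.le v
            exact Set.mem_of_eq_of_mem ((e1.symm.trans (congrArg S.V.1.ι hv.symm)).trans e2) v.2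
          have hz'' : z.1 ∈ S'.U.1 := by rw [hU]; exact hz'
          exact ⟨⟨z.1, hz''⟩, Subtype.ext (Scheme.homOfLE_apply _ _)⟩ }
  have : IsClosedImmersion iS' := inferInstanceAs (IsClosedImmersion S'.i)
  have hrk : Set.range iS' = Set.range D'.i := by
    have h := S'.D.range_eq
    have h' := D'.range_eq
    exact compl_injective (h.symm.trans h')
  obtain ⟨k, hk⟩ := RedSub.exists_lift iS' D'.i hrk.le
  have hks : Function.Surjective k := fun z => by
    obtain ⟨v, hv⟩ := hrk.ge (Set.mem_range_self z)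
    refine ⟨v, D'.i.isEmbedding.injective ?_⟩
    rw [← hk] at hv
    exact hv
  have : IsImmersion (k ≫ D'.i) := by rw [hk]; infer_instance
  have : IsImmersion k := .of_comp k D'.i
  have : IsClosedImmersion k :=
    .of_isPreimmersion k (by rw [hks.range_eq]; exact isClosed_univ)
  have : AlgebraicGeometry.Surjective k := ⟨hks⟩
  have hdim : WeilCoh.dim S'.P.Z.scheme = WeilCoh.dim Z'.scheme := by
    have hh : IsHomeomorph k.base :=
      (k.isClosedEmbedding.isEmbedding.toHomeomorphOfSurjective hks).isHomeomorph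
    unfold WeilCoh.dim WeilCoh.natDim
    rw [hh.topologicalKrullDim_eq]
  have hcod : D'.codim = 1 := by
    have e := S'.relCodim_eq
    simp only [relCodim, hdim] at e
    show (WeilCoh.dim (Y.res S'.V.1).scheme : ℤ) - (WeilCoh.dim Z'.scheme : ℤ) = 1
    simpa using e
  let h : S'.P.Z.scheme ⟶ S.P.Z.scheme := k ≫ pullback.fst iS fV
  have hh : h ≫ iS = iS' ≫ fV := by
    rw [← hk, Category.assoc, Category.assoc, pullback.condition]
  have hrel : relCodim S'.P.Z.scheme S.P.Z.scheme = 0 := by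
    have e1 : WeilCoh.dim S.P.Z.scheme + (q + 1) = WeilCoh.dim X.scheme := S.dim_eq
    have e2 : WeilCoh.dim S'.P.Z.scheme + (0 + 1) = WeilCoh.dim Y.scheme := S'.dim_eq
    simp only [relCodim]
    omega
  have hrel' : relCodim D'.Z.scheme S.P.Z.scheme = 0 := by
    simp only [relCodim] at hrel ⊢
    rw [← hdim]
    exact hrel
  have hkrel : relCodim S'.P.Z.scheme D'.Z.scheme = 0 := by
    simp only [relCodim]
    rw [hdim]
    exact sub_self _
  have hrelD : relCodim D'.Z.scheme S.D.Z.scheme = 0 := hrel'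
  have hkrelD : relCodim S'.D.Z.scheme D'.Z.scheme = 0 := hkrel
  have hpf : IsProper (pullback.fst iS fV) := MorphismProperty.pullback_fst iS fV hfVp
  have : @IsProper D'.Z.scheme S.D.Z.scheme (pullback.fst iS fV) := hpf
  have : @IsClosedImmersion S'.D.Z.scheme D'.Z.scheme k := ‹IsClosedImmersion k›
  have : @AlgebraicGeometry.Surjective S'.D.Z.scheme D'.Z.scheme k := ‹AlgebraicGeometry.Surjective k›
  have : @IsProper D'.U.scheme S.D.U.scheme fU := ‹IsProper fU›
  -- residue, then push-forward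
  have hres : (T.push (X := S'.P.Z) (Y := S.P.Z) h M i₂ n₂ i₂ n₂ (by rw [hrel]; ring)
      (by rw [hrel]; ring)).hom ((S'.res T M h4 h4').hom c) =
      (S.res T M h2 h2').hom ((T.push fU M i n i₁ n₁ hc hc').hom c) := by
    have e := ConcreteCategory.congr_hom (T.res_push S.D D' fV (pullback.fst iS fV) fU
      (IsPullback.of_hasPullback iS fV).flip hUsq M i n i₂ n₂ i₁ n₁ i₂ n₂
      (by rw [hcod]; push_cast at h4; linarith) (by rw [hcod]; push_cast at h4'; linarith)
      hc hc' (by rw [hrelD]; ring) (by rw [hrelD]; ring)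
      (by rw [S.codim_D]; exact h2) (by rw [S.codim_D]; exact h2')) c
    refine Eq.trans ?_ e
    have e' := ConcreteCategory.congr_hom (hred (Y.res S'.V.1) D' S'.D (𝟙 _) k
      (Category.id_comp _) hk M i n i₂ n₂
      (by rw [hcod]; push_cast at h4; linarith) (by rw [hcod]; push_cast at h4'; linarith)
      (by rw [S'.codim_D]; exact h4) (by rw [S'.codim_D]; exact h4')
      (by rw [hkrelD]; ring) (by rw [hkrelD]; ring)) c
    have hb : (T.pull (𝟙 (Y.res S'.U.1)) M i n).hom c = c := pull_id T _ M i n c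
    rw [← T.push_comp (X := S'.P.Z) (Y := Z') (Z := S.P.Z) k (pullback.fst iS fV) M i₂ n₂ i₂ n₂ i₂ n₂
      (by rw [hkrel]; ring) (by rw [hkrel]; ring) (by rw [hrel']; ring) (by rw [hrel']; ring)]
    refine congrArg (T.push (X := Z') (Y := S.P.Z) (pullback.fst iS fV) M i₂ n₂ i₂ n₂ _ _).hom ?_
    exact (congrArg (fun v => (T.push (X := S'.P.Z) (Y := Z') k M i₂ n₂ i₂ n₂ _ _).hom ((S'.res T M h4 h4').hom v))
      hb).symm.trans e'
  rw [← hres]
  generalize (S'.res T M h4 h4').hom c = r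
  conv_lhs => rw [← S'.P.sum_pushC_pull T M i₂ n₂ r]
  rw [map_sum, S.total_sum, Slice.total, map_sum]
  refine Finset.sum_congr rfl fun y _ => ?_
  rw [PreTheory.PtPush.famTot_lof, Slice.comp]
  generalize (T.pull (S'.P.g y) M i₂ n₂).hom r = ry
  -- the piece of `y` maps to the piece of its image
  have hyd : WeilCoh.codim X.scheme (t (S'.cd y)).1 = q + 1 := (t (S'.cd y)).2
  have hty : φ y.1 = (t (S'.cd y)).1 := (F (S'.cd y)).maps_pt
  have hx : (t (S'.cd y)).1 ∈ S.P.s := by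
    refine S.mem_pts.2 ⟨hyd, fun hxU => (S'.mem_pts.1 y.2).2 ?_⟩
    rw [hU]
    show φ y.1 ∈ S.U.1
    rw [hty]
    exact hxU
  let x : S.P.s := ⟨(t (S'.cd y)).1, hx⟩
  let gy : ((Y.ptSub y.1).res (S'.P.W y).1).scheme ⟶ S.P.Z.scheme := (S'.P.g y).hom ≫ h
  have hgy : gy ≫ S.P.κ = (S'.P.W y).1.ι ≫ Y.ptSubι y.1 ≫ φ := by
    calc gy ≫ S.P.κ = ((S'.P.g y).hom ≫ h) ≫ (iS ≫ S.V.1.ι) := rfl
      _ = (S'.P.g y).hom ≫ ((iS' ≫ S'.V.1.ι) ≫ φ) := by
        rw [Category.assoc, ← Category.assoc h, hh, Category.assoc, hfac, Category.assoc]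
      _ = ((S'.P.g y).hom ≫ S'.P.κ) ≫ φ := (Category.assoc _ _ _).symm
      _ = ((S'.P.W y).1.ι ≫ Y.ptSubι y.1) ≫ φ := congrArg (· ≫ φ) (S'.P.g_fac y)
      _ = _ := Category.assoc _ _ _
  have : IsReduced ((Y.ptSub y.1).res (S'.P.W y).1).scheme :=
    isReduced_of_isOpenImmersion (S'.P.W y).1.ι
  obtain ⟨hy, hhy⟩ := RedSub.exists_lift gy (S.P.g x).hom (by
    rintro _ ⟨v, rfl⟩
    rw [S.P.range_g]
    show S.P.κ (gy v) ∈ closure {(t (S'.cd y)).1}
    rw [← Scheme.Hom.comp_apply, hgy, Scheme.Hom.comp_apply, Scheme.Hom.comp_apply]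
    have hv : y.1 ⤳ Y.ptSubι y.1 ((S'.P.W y).1.ι v) :=
      specializes_iff_mem_closure.2 ((range_ptSubι Y y.1).le (Set.mem_range_self _))
    have := hv.map φ.continuous
    rw [show φ.base y.1 = (t (S'.cd y)).1 from hty] at this
    exact specializes_iff_mem_closure.1 this)
  have : IsProper h := inferInstanceAs (IsProper (k ≫ pullback.fst iS fV))
  have hgp : IsProper (S'.P.g y).hom := inferInstance
  have : @IsProper _ S'.P.Z.scheme (S'.P.g y).hom := hgp
  have hgyp : IsProper gy := inferInstanceAs (IsProper ((S'.P.g y).hom ≫ h))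
  have : IsProper hy := by
    have : IsProper (hy ≫ (S.P.g x).hom) := by rw [hhy]; exact hgyp
    exact IsProper.of_comp hy (S.P.g x).hom
  have hyrel : relCodim ((Y.ptSub y.1).res (S'.P.W y).1).scheme
      ((X.ptSub x.1).res (S.P.W x).1).scheme = 0 := by
    have e1 := (F (S'.cd y)).codim_eq
    simp only [relCodim, (S'.P.g y).dim_eq, (S.P.g x).dim_eq] at hrel ⊢
    exact hrel
  have key : (T.push (X := S'.P.Z) (Y := S.P.Z) h M i₂ n₂ i₂ n₂ (by rw [hrel]; ring)
      (by rw [hrel]; ring)).hom ((pushC T (S'.P.g y) M i₂ n₂).hom ry) =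
      (pushC T (S.P.g x) M i₂ n₂).hom ((T.push hy M i₂ n₂ i₂ n₂ (by rw [hyrel]; ring)
        (by rw [hyrel]; ring)).hom ry) := by
    have e1 := ConcreteCategory.congr_hom (T.push_comp (Y := S'.P.Z) (S'.P.g y).hom h M i₂ n₂ i₂ n₂
      i₂ n₂ (by rw [show relCodim _ S'.P.Z.scheme = 0 from relCodim_hom (S'.P.g y)]; ring)
      (by rw [show relCodim _ S'.P.Z.scheme = 0 from relCodim_hom (S'.P.g y)]; ring)
      (by rw [hrel]; ring) (by rw [hrel]; ring)
      (by rw [show relCodim _ S.P.Z.scheme = 0 from by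
            have := relCodim_hom (S'.P.g y); simp only [relCodim] at this hrel ⊢
            have e : WeilCoh.dim S'.P.Z.scheme = WeilCoh.dim S'.P.Z.scheme := rfl
            omega]; ring)
      (by rw [show relCodim _ S.P.Z.scheme = 0 from by
            have := relCodim_hom (S'.P.g y); simp only [relCodim] at this hrel ⊢
            have e : WeilCoh.dim S'.P.Z.scheme = WeilCoh.dim S'.P.Z.scheme := rfl
            omega]; ring)) ry
    have e2 := ConcreteCategory.congr_hom (T.push_comp hy (S.P.g x).hom M i₂ n₂ i₂ n₂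
      i₂ n₂ (by rw [hyrel]; ring) (by rw [hyrel]; ring)
      (by rw [relCodim_hom (S.P.g x)]; ring) (by rw [relCodim_hom (S.P.g x)]; ring)
      (by rw [show relCodim _ S.P.Z.scheme = 0 from by
            have := relCodim_hom (S.P.g x); simp only [relCodim] at this hyrel ⊢; omega]; ring)
      (by rw [show relCodim _ S.P.Z.scheme = 0 from by
            have := relCodim_hom (S.P.g x); simp only [relCodim] at this hyrel ⊢; omega]; ring)) ry
    exact e1.trans ((push_congr hhy.symm M _ _ _ _ _ _ ry).trans e2.symm)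
  refine (congrArg (S.total T M) key).trans ?_
  rw [S.total_pushC]
  refine congrArg _ ?_
  have hcomm : hy ≫ (S.P.W x).1.ι ≫ X.ptSubι x.1 = (S'.P.W y).1.ι ≫ Y.ptSubι y.1 ≫ φ :=
    (congrArg (hy ≫ ·) (S.P.g_fac x)).symm.trans ((Category.assoc _ _ _).symm.trans
      ((congrArg (· ≫ S.P.κ) hhy).trans hgy))
  have : @IsProper ((Y.ptSub (S'.cd y).1).res (S'.P.W y).1).scheme
      ((X.ptSub (t (S'.cd y)).1).res (S.P.W x).1).scheme hy := ‹IsProper hy›
  have hi0 : i₂ = i₂ + 2 * relCodim ((Y.ptSub (S'.cd y).1).res (S'.P.W y).1).scheme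
      ((X.ptSub (t (S'.cd y)).1).res (S.P.W x).1).scheme :=
    (by rw [hyrel]; ring : i₂ = i₂ + 2 * relCodim ((Y.ptSub y.1).res (S'.P.W y).1).scheme
      ((X.ptSub x.1).res (S.P.W x).1).scheme)
  have hn0 : n₂ = n₂ + relCodim ((Y.ptSub (S'.cd y).1).res (S'.P.W y).1).scheme
      ((X.ptSub (t (S'.cd y)).1).res (S.P.W x).1).scheme :=
    (by rw [hyrel]; ring : n₂ = n₂ + relCodim ((Y.ptSub y.1).res (S'.P.W y).1).scheme
      ((X.ptSub x.1).res (S.P.W x).1).scheme)
  exact (ConcreteCategory.congr_hom ((F (S'.cd y)).cpt_spec M i₂ n₂ (S'.P.W y) (S.P.W x) hy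
    hcomm hi0 hn0) ry).symm

end GrothLib.BMGysin
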