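/-
The groups of `F_0` of a reduced object: the sum over the points of codimension `0`.
-/
import Groth.Agent.Lib.BMGysin.Exact

set_option autoImplicit false
universe u

open AlgebraicGeometry CategoryTheory CategoryTheory.Limits Opposite TopologicalSpace BMCoh
open GrothLib DirectSum

namespace GrothLib.BMGysin

variable {V : ObjectProperty Scheme.{u}} [IsConstructible V]

lemma finite_codim_zero (X : Obj V) : {x : X.scheme | WeilCoh.codim X.scheme x = 0}.Finite := by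
  obtain ⟨G, hGf, -, hG⟩ := exists_finite_generic (X := X) isClosed_univ
  refine hGf.subset fun x hx => ?_
  obtain ⟨g, hg, hgx⟩ := hG x (Set.mem_univ x)
  rwa [← eq_of_codim_le (finDim X) hgx (le_of_eq_of_le hx (Nat.zero_le _))]

lemma mem_fin {X : Obj V} {x : X.scheme} :
    x ∈ (finite_codim_zero X).toFinset ↔ WeilCoh.codim X.scheme x = 0 :=
  Set.Finite.mem_toFinset _

/-- an open containing the generic points of maximal dimension, split by their closures -/
structure Top (X : Obj V) where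
  U : Idx X (ContainsFj X 0)
  cover : ∀ z ∈ U.1, ∃ x, WeilCoh.codim X.scheme x = 0 ∧ x ⤳ z
  uniq : ∀ z ∈ U.1, ∀ x y, WeilCoh.codim X.scheme x = 0 → WeilCoh.codim X.scheme y = 0 →
    x ⤳ z → y ⤳ z → x = y

lemma exists_top {X : Obj V} (W : Idx X (ContainsFj X 0)) : ∃ t : Top X, t.U.1 ≤ W.1 := by
  obtain ⟨G, hGf, -, hG⟩ := exists_finite_generic (X := X) isClosed_univ
  let p : Set X.scheme := {x | WeilCoh.codim X.scheme x = 0}
  have hp : p.Finite := finite_codim_zero X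
  let bad : Set X.scheme := (⋃ g ∈ {g ∈ G | g ∉ p}, closure {g}) ∪
    ⋃ q ∈ {q ∈ p ×ˢ p | q.1 ≠ q.2}, closure {q.1} ∩ closure {q.2}
  have hbad : IsClosed bad :=
    ((hGf.subset fun g hg => hg.1).isClosed_biUnion fun _ _ => isClosed_closure).union
      (((hp.prod hp).subset fun q hq => hq.1).isClosed_biUnion
        fun _ _ => isClosed_closure.inter isClosed_closure)
  have hcodim : ∀ y ∈ bad, 0 < WeilCoh.codim X.scheme y := by
    rintro y (hy | hy) <;> simp only [Set.mem_iUnion, exists_prop] at hy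
    · obtain ⟨g, ⟨-, hgp⟩, hgy⟩ := hy
      exact lt_of_lt_of_le (Nat.pos_of_ne_zero hgp)
        (codim_mono (finDim X) (specializes_iff_mem_closure.2 hgy))
    · obtain ⟨q, ⟨⟨hq1, hq2⟩, hne⟩, hy1, hy2⟩ := hy
      by_contra! h
      exact hne ((eq_of_codim_le (finDim X) (specializes_iff_mem_closure.2 hy1)
        (h.trans (Nat.zero_le _))).trans (eq_of_codim_le (finDim X)
        (specializes_iff_mem_closure.2 hy2) (h.trans (Nat.zero_le _))).symm)
  let O : X.scheme.Opens := W.1 ⊓ ⟨badᶜ, hbad.isOpen_compl⟩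
  have hO : ContainsFj X 0 O :=
    fun y hy => ⟨W.2.1 y hy, fun hyb => absurd (hcodim y hyb) (by omega)⟩
  refine ⟨⟨mkFjIdx X O hO, ?_, ?_⟩, inf_le_left⟩
  · intro z hz
    obtain ⟨g, hg, hgz⟩ := hG z (Set.mem_univ z)
    by_cases hgp : g ∈ p
    · exact ⟨g, hgp, hgz⟩
    · exact absurd (show z ∈ bad from Or.inl (Set.mem_biUnion (x := g) ⟨hg, hgp⟩
        (specializes_iff_mem_closure.1 hgz))) hz.2
  · intro z hz x y hx hy hxz hyz
    by_contra hne
    exact hz.2 (show z ∈ bad from Or.inr (Set.mem_biUnion (x := (x, y)) ⟨⟨hx, hy⟩, hne⟩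
      ⟨specializes_iff_mem_closure.1 hxz, specializes_iff_mem_closure.1 hyz⟩))

namespace Top

variable {X : Obj V} [IsReduced X.scheme] [Nonempty X.scheme] (t : Top X)

lemma mem {x : X.scheme} (hx : WeilCoh.codim X.scheme x = 0) : x ∈ t.U.1 := t.U.2.1 x hx.le

/-- the pieces -/
noncomputable def P : Pieces X where
  Z := X.res t.U.1
  κ := t.U.1.ι
  imm := inferInstanceAs (IsImmersion t.U.1.ι)
  red := isReduced_of_isOpenImmersion t.U.1.ι
  V₀ := t.U.1
  s := (finite_codim_zero X).toFinset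
  d := WeilCoh.dim X.scheme
  nonempty := (exists_pdim_eq_dim (finDim X)).imp fun x hx =>
    mem_fin.2 (by simp [WeilCoh.codim, hx])
  mem x hx := t.mem (mem_fin.1 hx)
  pdim_eq x hx := by
    have h := pdim_add_codim (finDim X) x
    have h0 : WeilCoh.codim X.scheme x = 0 := mem_fin.1 hx
    omega
  range_eq := by
    rw [Scheme.Opens.range_ι]
    ext z
    exact ⟨fun hz => ⟨hz, (t.cover z hz).imp fun x hx =>
      ⟨mem_fin.2 hx.1, hx.2⟩⟩, fun h => h.1⟩
  disj z hz x hx y hy hxz hyz := t.uniq z hz x y (mem_fin.1 hx)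
    (mem_fin.1 hy) hxz hyz

lemma mem_s {x : X.scheme} : x ∈ t.P.s ↔ WeilCoh.codim X.scheme x = 0 :=
  mem_fin

/-- the point as a point of codimension `0` -/
def cd (x : t.P.s) : X.cdPt 0 := ⟨x.1, t.mem_s.1 x.2⟩

/-- shrinking -/
def shrink (W : Idx X (ContainsFj X 0)) (h : W.1 ≤ t.U.1) : Top X :=
  ⟨W, fun z hz => t.cover z (h hz), fun z hz => t.uniq z (h hz)⟩

variable {R : Type u} [CommRing R] {A : Coefs R} (T : PreTheory V R A) (M : A.Cat)

/-- the component of a class -/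
noncomputable def comp {i n : ℤ} (x : t.P.s) (z : T.gp (X.res t.U.1) M i n) : T.ptGp X x.1 M i n :=
  ((T.ptι X x.1 i n (t.P.W x)).app M).hom ((T.pull (t.P.g x) M i n).hom z)

lemma exists_shrink (W' : ∀ x : t.P.s, ptIdx X x.1) :
    ∃ (W : Idx X (ContainsFj X 0)) (h : W.1 ≤ t.U.1),
      ∀ (x : (t.shrink W h).P.s) (hx : x.1 ∈ t.P.s),
        ((t.shrink W h).P.W x).1 ≤ (W' ⟨x.1, hx⟩).1 := by
  let bad : Set X.scheme := ⋃ x : t.P.s, (X.ptSubι x.1).base '' ((W' x).1 : Set _)ᶜ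
  have hbad : IsClosed bad := isClosed_iUnion_of_finite fun x =>
    (X.ptSubι x.1).isClosedEmbedding.isClosedMap _ (W' x).1.isOpen.isClosed_compl
  let O : X.scheme.Opens := t.U.1 ⊓ ⟨badᶜ, hbad.isOpen_compl⟩
  have hO : ContainsFj X 0 O := by
    refine fun y hy => ⟨t.U.2.1 y hy, fun hyb => ?_⟩
    obtain ⟨x, w, hw, rfl⟩ := Set.mem_iUnion.1 hyb
    have hxy : x.1 ⤳ X.ptSubι x.1 w :=
      specializes_iff_mem_closure.2 ((range_ptSubι X x.1).le ⟨w, rfl⟩)
    have hxe : x.1 = X.ptSubι x.1 w :=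
      eq_of_codim_le (finDim X) hxy (hy.trans (Nat.zero_le _))
    exact hw (genericPoint_mem x.1 (W' x) w hxe.symm)
  refine ⟨mkFjIdx X O hO, inf_le_left, fun x hx w hw => ?_⟩
  by_contra hn
  have hw' : X.ptSubι x.1 w ∈ O := hw
  exact hw'.2 (Set.mem_iUnion.2 ⟨⟨x.1, hx⟩, w, hn, rfl⟩)

lemma g_shrink (W : Idx X (ContainsFj X 0)) (h : W.1 ≤ t.U.1) (x : (t.shrink W h).P.s)
    (hx : x.1 ∈ t.P.s) :
    (t.shrink W h).P.g x ≫ Idx.res X W t.U h =
      Idx.res (X.ptSub x.1) ((t.shrink W h).P.W x) (t.P.W ⟨x.1, hx⟩) (fun z hz => h (show X.ptSubι x.1 z ∈ W.1 from hz)) ≫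
        t.P.g ⟨x.1, hx⟩ := by
  apply hom_ext
  rw [← cancel_mono t.U.1.ι]
  refine (Category.assoc _ _ _).trans ?_
  refine (congrArg (((t.shrink W h).P.g x).hom ≫ ·) (Scheme.homOfLE_ι X.scheme h)).trans ?_
  refine ((t.shrink W h).P.g_fac x).trans ?_
  refine Eq.trans ?_ (Category.assoc _ _ _).symm
  refine Eq.trans ?_ (congrArg (_ ≫ ·) (t.P.g_fac ⟨x.1, hx⟩)).symm
  refine Eq.trans ?_ (Category.assoc _ _ _)
  exact congrArg (· ≫ X.ptSubι x.1)
    (Scheme.homOfLE_ι (X.ptSub x.1).scheme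
      (show ((t.shrink W h).P.W x).1 ≤ (t.P.W ⟨x.1, hx⟩).1 from fun z hz => h (show X.ptSubι x.1 z ∈ W.1 from hz))).symm

/-- a class all whose components vanish is zero in `F_0` -/
lemma ι_eq_zero {i n : ℤ} (z : T.gp (X.res t.U.1) M i n) (h : ∀ x, t.comp T M x z = 0) :
    ((T.fjι X 0 i n t.U).app M).hom z = 0 := by
  have h' : ∀ x : t.P.s, ∃ (W' : ptIdx X x.1) (hW : W'.1 ≤ (t.P.W x).1),
      (T.pull (Idx.res (X.ptSub x.1) W' (t.P.W x) hW) M i n).hom
        ((T.pull (t.P.g x) M i n).hom z) = 0 :=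
    fun x => exists_le_of_ι_eq_zero (T := T) M i n (goodP_pt X x.1) (h x)
  choose W' hW hz using h'
  obtain ⟨W, hle, hV⟩ := t.exists_shrink W'
  rw [← ι_pull (T := T) M i n (U' := W) (U := t.U) hle]
  refine (congrArg _ ((t.shrink W hle).P.eq_zero_of_forall_pull T M i n _ fun x => ?_)).trans
    (map_zero _)
  have hx : x.1 ∈ t.P.s := t.mem_s.2 ((t.shrink W hle).mem_s.1 x.2)
  refine ((pull_comp T _ _ M i n z).trans
    (pull_congr T (congrArg Hom.hom (t.g_shrink W hle x hx)) M i n z)).trans ?_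
  have e : Idx.res (X.ptSub x.1) ((t.shrink W hle).P.W x) (t.P.W ⟨x.1, hx⟩)
      (fun v hw => hle (show X.ptSubι x.1 v ∈ W.1 from hw)) =
      Idx.res (X.ptSub x.1) ((t.shrink W hle).P.W x) (W' ⟨x.1, hx⟩) (hV x hx) ≫
        Idx.res (X.ptSub x.1) (W' ⟨x.1, hx⟩) (t.P.W ⟨x.1, hx⟩) (hW _) :=
    hom_ext ((X.ptSub x.1).scheme.homOfLE_homOfLE (hV x hx) (hW ⟨x.1, hx⟩)).symm
  rw [e, Category.assoc]
  refine (pull_comp T _ (_ ≫ t.P.g ⟨x.1, hx⟩) M i n z).symm.trans ?_
  refine (congrArg _ (pull_comp T _ (t.P.g ⟨x.1, hx⟩) M i n z).symm).trans ?_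
  exact (congrArg _ (hz ⟨x.1, hx⟩)).trans (map_zero _)

end Top

variable {R : Type u} [CommRing R] {A : Coefs R} (T : PreTheory V R A) (M : A.Cat)

/-- if the groups of the points of maximal dimension vanish, so does the group of `F_0` -/
lemma fjGp_zero_subsingleton {X : Obj V} [IsReduced X.scheme] (i n : ℤ)
    (h : ∀ x : X.scheme, WeilCoh.codim X.scheme x = 0 → Subsingleton (T.ptGp X x M i n)) :
    Subsingleton (T.fjGp X 0 M i n) := by
  refine subsingleton_of_forall_eq 0 fun a => ?_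
  obtain ⟨U, b, rfl⟩ := exists_rep (T := T) M i n (goodP_containsFj X 0) a
  cases isEmpty_or_nonempty X.scheme
  · have : IsEmpty (X.res U.1).scheme := ⟨fun z => isEmptyElim (α := X.scheme) (U.1.ι z)⟩
    rw [gp_eq_zero_of_isEmpty T _ M i n b, map_zero]
  · obtain ⟨t, ht⟩ := exists_top U
    rw [← ι_pull (T := T) M i n (U' := t.U) (U := U) ht]
    refine t.ι_eq_zero T M _ fun x => ?_
    have := h x.1 (t.mem_s.1 x.2)
    exact Subsingleton.elim _ _

end GrothLib.BMGysin
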