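/-
Push-forward data in codimension `0`.
-/
import Groth.Agent.Lib.BMGysin.Top
import Mathlib.Algebra.DirectSum.Module

set_option autoImplicit false
universe u

open AlgebraicGeometry CategoryTheory CategoryTheory.Limits Opposite TopologicalSpace BMCoh
open GrothLib DirectSum

namespace GrothLib.BMGysin

variable {V : ObjectProperty Scheme.{u}} [IsConstructible V]
variable {R : Type u} [CommRing R] {A : Coefs R} {T : PreTheory V R A} {X : Obj V}

variable [IsReduced X.scheme] [Nonempty X.scheme]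

lemma Top.W_shrink_le (t : Top X) (W : Idx X (ContainsFj X 0)) (h : W.1 ≤ t.U.1)
    (x : (t.shrink W h).P.s) (hx : x.1 ∈ t.P.s) :
    ((t.shrink W h).P.W x).1 ≤ (t.P.W ⟨x.1, hx⟩).1 :=
  fun _ hv => h hv

lemma Top.comp_shrink (t : Top X) (M : A.Cat) {i n : ℤ} (W : Idx X (ContainsFj X 0))
    (h : W.1 ≤ t.U.1) (x : (t.shrink W h).P.s) (hx : x.1 ∈ t.P.s)
    (z : T.gp (X.res t.U.1) M i n) :
    (t.shrink W h).comp T M x ((T.pull (Idx.res X W t.U h) M i n).hom z) =
      t.comp T M ⟨x.1, hx⟩ z := by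
  have h1 := (pull_comp T ((t.shrink W h).P.g x) (Idx.res X W t.U h) M i n z).trans
    (pull_congr T (congrArg Hom.hom (t.g_shrink W h x hx)) M i n z)
  refine (congrArg ((T.ptι X x.1 i n ((t.shrink W h).P.W x)).app M).hom
    (h1.trans (pull_comp T _ (t.P.g ⟨x.1, hx⟩) M i n z).symm)).trans ?_
  exact ι_pull (T := T) M i n (t.W_shrink_le W h x hx) _

lemma pushData_cpt_top (P : T.PushData X 0) (t : Top X) (M : A.Cat) {i n : ℤ}
    (hi : i = i + 2 * ((0 : ℕ) : ℤ)) (hn : n = n + ((0 : ℕ) : ℤ))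
    (x : t.P.s) (w : T.gp ((X.ptSub x.1).res (t.P.W x).1) M i n) :
    (P.cpt (t.cd x) M i n i n hi hn).hom (((T.ptι X x.1 i n (t.P.W x)).app M).hom w) =
      ((T.fjι X 0 i n t.U).app M).hom ((pushC T (t.P.g x) M i n).hom w) := by
  have hpg : IsProper (t.P.g x).hom := inferInstance
  have : @IsProper _ (X.res t.U.1).scheme (t.P.g x).hom := hpg
  have : @IsProper ((X.ptSub (t.cd x).1).res (t.P.W x).1).scheme (X.res t.U.1).scheme (t.P.g x).hom := hpg
  have h0 : relCodim ((X.ptSub x.1).res (t.P.W x).1).scheme (X.res t.U.1).scheme = 0 :=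
    relCodim_hom (t.P.g x)
  have hi' : i = i + 2 * relCodim ((X.ptSub x.1).res (t.P.W x).1).scheme (X.res t.U.1).scheme := by
    rw [h0]; ring
  have hn' : n = n + relCodim ((X.ptSub x.1).res (t.P.W x).1).scheme (X.res t.U.1).scheme := by
    rw [h0]; ring
  exact ConcreteCategory.congr_hom (P.cpt_spec (t.cd x) M i n i n hi hn t.U (t.P.W x)
    (t.P.g x).hom (t.P.g_fac x) hi' hn') w

open Classical in
/-- the element of the sum over the points given by a class on `t.U` -/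
noncomputable def Top.total (t : Top X) (T : PreTheory V R A) (M : A.Cat) {i n : ℤ}
    (z : T.gp (X.res t.U.1) M i n) : T.ptSum X 0 M i n :=
  ∑ x : t.P.s, DirectSum.lof R (X.cdPt 0) (fun y : X.cdPt 0 => T.ptGp X y.1 M i n)
    (t.cd x) (t.comp T M x z)

lemma Top.total_apply (t : Top X) (M : A.Cat) {i n : ℤ} (z : T.gp (X.res t.U.1) M i n)
    (y : X.cdPt 0) : t.total T M z y = t.comp T M ⟨y.1, t.mem_s.2 y.2⟩ z := by
  classical
  show DirectSum.component R (X.cdPt 0) (fun y => T.ptGp X y.1 M i n) y (∑ _, _) = _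
  rw [map_sum, Finset.sum_eq_single (⟨y.1, t.mem_s.2 y.2⟩ : t.P.s)]
  · exact DirectSum.component.lof_self (R := R) (M := fun y : X.cdPt 0 => T.ptGp X y.1 M i n) y _
  · intro x _ hne
    rw [DirectSum.component.of]
    refine dif_neg fun (e : t.cd x = y) => hne (Subtype.ext ?_)
    exact congrArg (fun q : X.cdPt 0 => q.1) e
  · simp

lemma pushData_tot_top (P : T.PushData X 0) (t : Top X) (M : A.Cat) {i n : ℤ}
    (hi : i = i + 2 * ((0 : ℕ) : ℤ)) (hn : n = n + ((0 : ℕ) : ℤ))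
    (z : T.gp (X.res t.U.1) M i n) :
    (P.tot M i n i n hi hn).hom (t.total T M z) = ((T.fjι X 0 i n t.U).app M).hom z := by
  classical
  rw [Top.total, map_sum]
  have hz := t.P.sum_pushC_pull T M i n z
  conv_rhs => rw [← hz]
  refine Eq.trans ?_ (map_sum ((T.fjι X 0 i n t.U).app M).hom _ _).symm
  refine Finset.sum_congr rfl fun x _ => ?_
  rw [PreTheory.PushData.tot_lof]
  exact pushData_cpt_top P t M hi hn x _

lemma pushData_tot_bijective (P : T.PushData X 0) (M : A.Cat) (i n i' n' : ℤ)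
    (hi : i' = i + 2 * ((0 : ℕ) : ℤ)) (hn : n' = n + ((0 : ℕ) : ℤ)) :
    Function.Bijective (P.tot M i n i' n' hi hn).hom := by
  obtain rfl : i' = i := by simpa using hi
  obtain rfl : n' = n := by simpa using hn
  constructor
  · rw [injective_iff_map_eq_zero]
    intro ξ hξ
    obtain ⟨t, -⟩ := exists_top (mkFjIdx X ⊤ fun _ _ => trivial : Idx X (ContainsFj X 0))
    have hrep : ∀ x : t.P.s, ∃ (W' : ptIdx X x.1) (w : T.gp ((X.ptSub x.1).res W'.1) M i' n'),
        ((T.ptι X x.1 i' n' W').app M).hom w = ξ (t.cd x) :=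
      fun x => exists_rep (T := T) M i' n' (goodP_pt X x.1) _
    choose W' w hw using hrep
    obtain ⟨W, hle, hV⟩ := t.exists_shrink W'
    let t₁ := t.shrink W hle
    obtain ⟨z, hz⟩ := t₁.P.exists_pull_eq T M i' n' fun x =>
      (T.pull (Idx.res (X.ptSub x.1) (t₁.P.W x) (W' ⟨x.1, t.mem_s.2 (t₁.mem_s.1 x.2)⟩)
        (hV x (t.mem_s.2 (t₁.mem_s.1 x.2)))) M i' n').hom (w _)
    have hξz : t₁.total T M z = ξ := by
      refine DFinsupp.ext fun y => ?_
      rw [Top.total_apply, Top.comp, hz]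
      exact (ι_pull (T := T) M i' n' (hV ⟨y.1, t₁.mem_s.2 y.2⟩ (t.mem_s.2 y.2)) _).trans
        (hw ⟨y.1, t.mem_s.2 y.2⟩)
    rw [← hξz] at hξ ⊢
    rw [pushData_tot_top P t₁ M _ _ z] at hξ
    obtain ⟨W₂, h₂, hW₂⟩ := exists_le_of_ι_eq_zero (T := T) M i' n' (goodP_containsFj X 0) hξ
    refine DFinsupp.ext fun y => ?_
    rw [Top.total_apply]
    have := t₁.comp_shrink M W₂ h₂ ⟨y.1, (t₁.shrink W₂ h₂).mem_s.2 y.2⟩ (t₁.mem_s.2 y.2) z
    rw [← this, hW₂]
    exact (congrArg _ (map_zero _)).trans (map_zero _)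
  · intro a
    obtain ⟨U, b, rfl⟩ := exists_rep (T := T) M i' n' (goodP_containsFj X 0) a
    obtain ⟨t, ht⟩ := exists_top U
    exact ⟨t.total T M ((T.pull (Idx.res X t.U U ht) M i' n').hom b),
      (pushData_tot_top P t M _ _ _).trans (ι_pull (T := T) M i' n' ht b)⟩

end GrothLib.BMGysin
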