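/-
Bijectivity and vanishing results for the groups of `F_j`.
-/
import Groth.Agent.Lib.BMGysin.Top
import Groth.Agent.Lib.BMGysin.Exact

set_option autoImplicit false
universe u

open AlgebraicGeometry CategoryTheory CategoryTheory.Limits Opposite TopologicalSpace BMCoh
open GrothLib

namespace GrothLib.BMGysin

variable {V : ObjectProperty Scheme.{u}} [IsConstructible V]
variable {R : Type u} [CommRing R] {A : Coefs R} (T : PreTheory V R A) (M : A.Cat) {X : Obj V}

/-- injectivity of restriction from the vanishing of the groups of points -/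
lemma fjRes_injective {j : ℕ} {i n : ℤ}
    (h : ∀ x : X.scheme, WeilCoh.codim X.scheme x = j + 1 →
      Subsingleton (T.ptGp X x M (i - 2 * ((j : ℤ) + 1)) (n - ((j : ℤ) + 1)))) :
    Function.Injective ((T.fjRes X (Nat.le_succ j) i n).app M).hom := by
  rw [injective_iff_map_eq_zero]
  intro a ha
  rcases eq_zero_or_exists_push T M
    (i := i - 2 * ((j : ℤ) + 1)) (n := n - ((j : ℤ) + 1)) (by ring) (by ring) a ha with
    rfl | ⟨S, z, rfl⟩
  · rfl
  · refine S.ι_push_eq_zero T M _ _ z fun x => ?_
    have := h x.1 (S.mem_pts.1 x.2).1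
    exact Subsingleton.elim _ _

/-- surjectivity of restriction from the vanishing of the groups of points -/
lemma fjRes_surjective {j : ℕ} {i n : ℤ}
    (h : ∀ x : X.scheme, WeilCoh.codim X.scheme x = j + 1 →
      Subsingleton (T.ptGp X x M (i + 1 - 2 * ((j : ℤ) + 1)) (n - ((j : ℤ) + 1)))) :
    Function.Surjective ((T.fjRes X (Nat.le_succ j) i n).app M).hom := by
  intro a
  rcases mem_range_or_exists_slice (T := T) M a with ⟨c, hc⟩ | ⟨S, b, rfl⟩
  · exact ⟨c, hc⟩
  · refine S.mem_range_fjRes T M rfl rfl b fun x => ?_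
    have := h x.1 (S.mem_pts.1 x.2).1
    exact Subsingleton.elim _ _

lemma eq_top_of_containsFj {m : ℕ} (hm : WeilCoh.dim X.scheme ≤ m) {U : X.scheme.Opens}
    (hU : ContainsFj X m U) : U = ⊤ :=
  Opens.ext (Set.eq_univ_of_forall fun y => hU y ((Nat.sub_le _ _).trans hm))

lemma toFj_apply (j : ℕ) (i n : ℤ) (a : T.gp X M i n) :
    ((T.toFj X j i n).app M).hom a = ((T.fjι X j i n (mkFjIdx X ⊤ fun _ _ => trivial)).app M).hom
      ((T.pull X.resTop M i n).hom a) := rfl

lemma fjRes_toFj {j m : ℕ} (h : j ≤ m) (i n : ℤ) (a : T.gp X M i n) :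
    ((T.fjRes X h i n).app M).hom (((T.toFj X m i n).app M).hom a) =
      ((T.toFj X j i n).app M).hom a := by
  rw [toFj_apply, toFj_apply, ocolimMap_ι]
  rfl

lemma toFj_bijective_of_dim_le {m : ℕ} (hm : WeilCoh.dim X.scheme ≤ m) (i n : ℤ) :
    Function.Bijective ((T.toFj X m i n).app M).hom := by
  let top : Idx X (ContainsFj X m) := mkFjIdx X ⊤ fun _ _ => trivial
  have hres : Function.Surjective X.resTop.hom := fun x => ⟨⟨x, trivial⟩, rfl⟩
  have hι : Function.Bijective ((T.fjι X m i n top).app M).hom := by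
    constructor
    · rw [injective_iff_map_eq_zero]
      intro b hb
      obtain ⟨U, hU, h⟩ := exists_le_of_ι_eq_zero (T := T) M i n (goodP_containsFj X m) hb
      refine (pull_bijective_of_surjective T (Idx.res X U top hU) (fun x => ?_) M i n).1
        (h.trans (map_zero _).symm)
      exact ⟨⟨x.1, by rw [eq_top_of_containsFj hm U.2.1]; trivial⟩,
        Subtype.ext (Scheme.homOfLE_apply hU _)⟩
    · intro a
      obtain ⟨U, b, rfl⟩ := exists_rep (T := T) M i n (goodP_containsFj X m) a
      have hU : U = top := Subtype.ext (eq_top_of_containsFj hm U.2.1)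
      subst hU
      exact ⟨b, rfl⟩
  exact hι.comp (pull_bijective_of_surjective T X.resTop hres M i n)

/-- `H(X) → H(F_jX)` is bijective when all deeper groups of points vanish -/
lemma toFj_bijective (j : ℕ) (i n : ℤ)
    (h : ∀ (x : X.scheme) (k l : ℤ), j < WeilCoh.codim X.scheme x →
      k ≤ i + 1 - 2 * (WeilCoh.codim X.scheme x : ℤ) → Subsingleton (T.ptGp X x M k l)) :
    Function.Bijective ((T.toFj X j i n).app M).hom := by
  suffices ∀ (k m : ℕ), WeilCoh.dim X.scheme ≤ m + k → j ≤ m →
      Function.Bijective ((T.toFj X m i n).app M).hom from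
    this (WeilCoh.dim X.scheme) j (Nat.le_add_left _ _) le_rfl
  intro k
  induction k with
  | zero => intro m hm _; exact toFj_bijective_of_dim_le T M hm i n
  | succ k ih =>
    intro m hm hj
    have h1 := ih (m + 1) (by omega) (by omega)
    have h2 : Function.Bijective ((T.fjRes X (Nat.le_succ m) i n).app M).hom :=
      ⟨fjRes_injective T M fun x hx => h x _ _ (by omega) (by rw [hx]; push_cast; omega),
        fjRes_surjective T M fun x hx => h x _ _ (by omega) (by rw [hx]; push_cast; omega)⟩
    have h3 : ⇑((T.toFj X m i n).app M).hom =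
        ((T.fjRes X (Nat.le_succ m) i n).app M).hom ∘ ((T.toFj X (m + 1) i n).app M).hom :=
      funext fun a => (fjRes_toFj T M (Nat.le_succ m) i n a).symm
    rw [h3]
    exact h2.comp h1

lemma toFj_bijective_of_le_two_mul (T : TheoryOn V R A) (M : A.Cat) (X : Obj V) (j : ℕ) (i n : ℤ)
    (hj : i ≤ 2 * (j : ℤ)) : Function.Bijective ((T.toFj X j i n).app M).hom :=
  toFj_bijective T.toPreTheory M j i n fun x k l hx hk =>
    ModuleCat.subsingleton_of_isZero (T.pt_vanish X x M k l (by omega))

/-- vanishing of `H(F_jX)` in high degree -/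
lemma fjGp_subsingleton [IsReduced X.scheme] (c : ℕ)
    (hc : ∀ (y : X.scheme) (k l : ℤ), (WeilCoh.pdim X.scheme y : ℤ) + c < k →
      Subsingleton (T.ptGp X y M k l)) :
    ∀ (j : ℕ) (i n : ℤ), (WeilCoh.dim X.scheme : ℤ) + j + c < i →
      Subsingleton (T.fjGp X j M i n) := by
  intro j
  induction j with
  | zero =>
    intro i n hi
    refine fjGp_zero_subsingleton T M i n fun x hx => hc x i n ?_
    have := pdim_le_dim (finDim X) x
    omega
  | succ j ih =>
    intro i n hi
    push_cast at hi
    have h1 := ih i n (by omega)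
    refine (fjRes_injective T M (j := j) (i := i) (n := n) fun x hx => hc x _ _ ?_).subsingleton
    have := pdim_add_codim (finDim X) x
    omega

/-- negative degrees vanish on reduced objects -/
lemma gp_subsingleton_of_neg (T : TheoryOn V R A) (M : A.Cat) (X : Obj V) [IsReduced X.scheme]
    (i n : ℤ) (hi : i < 0) : Subsingleton (T.gp X M i n) := by
  have : Subsingleton (T.fjGp X 0 M i n) := fjGp_zero_subsingleton T.toPreTheory M i n
    fun x _ => ModuleCat.subsingleton_of_isZero (T.pt_vanish X x M i n hi)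
  exact (toFj_bijective_of_le_two_mul T M X 0 i n (by omega)).1.subsingleton

end GrothLib.BMGysin
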